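import Mathlib.RingTheory.Flat.FaithfullyFlat.Algebra
import Mathlib.RingTheory.RingHom.Flat
import Mathlib.RingTheory.RingHom.FaithfullyFlat
import Mathlib.AlgebraicGeometry.Morphisms.Flat

set_option autoImplicit false
universe u
open TensorProduct

namespace Groth.Agent.Lib.Helper19

/-- If `A → B → C` with `C` flat over `A` and faithfully flat over `B`, then `B` is flat over `A`. -/
lemma flat_of_flat_of_faithfullyFlat (A B C : Type u) [CommRing A] [CommRing B] [CommRing C]
    [Algebra A B] [Algebra B C] [Algebra A C] [IsScalarTower A B C]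
    [Module.FaithfullyFlat B C] [Module.Flat A C] : Module.Flat A B := by
  rw [Module.Flat.iff_lTensor_preserves_injective_linearMap]
  intro N P _ _ _ _ f hf
  have h1 : Function.Injective (f.lTensor C) := Module.Flat.lTensor_preserves_injective_linearMap f hf
  let g : B ⊗[A] N →ₗ[B] B ⊗[A] P := f.baseChange B
  have hg : (g : B ⊗[A] N → B ⊗[A] P) = f.lTensor B := by
    ext x; rfl
  rw [← hg, ← Module.FaithfullyFlat.lTensor_injective_iff_injective B C]
  let e₁ : C ⊗[B] (B ⊗[A] N) ≃ₗ[A] C ⊗[A] N :=
    (AlgebraTensorModule.cancelBaseChange A B C C N).restrictScalars A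
  let e₂ : C ⊗[B] (B ⊗[A] P) ≃ₗ[A] C ⊗[A] P :=
    (AlgebraTensorModule.cancelBaseChange A B C C P).restrictScalars A
  have hcomm : ∀ x, e₂ (g.lTensor C x) = f.lTensor C (e₁ x) := by
    intro x
    induction x using TensorProduct.induction_on with
    | zero => simp
    | add x y hx hy => simp only [map_add, hx, hy]
    | tmul c y =>
      induction y using TensorProduct.induction_on with
      | zero => simp
      | add x y hx hy => simp only [TensorProduct.tmul_add, map_add, hx, hy]
      | tmul b n =>
        simp [e₁, e₂, g]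
  intro x y hxy
  apply e₁.injective
  apply h1
  rw [← hcomm, ← hcomm, hxy]

/-- ring hom version -/
lemma RingHom.Flat.of_comp_of_faithfullyFlat {A B C : Type u} [CommRing A] [CommRing B]
    [CommRing C] (φ : A →+* B) (ψ : B →+* C) (hψ : ψ.FaithfullyFlat) (h : (ψ.comp φ).Flat) :
    φ.Flat := by
  algebraize [φ, ψ, ψ.comp φ]
  exact flat_of_flat_of_faithfullyFlat A B C

end Groth.Agent.Lib.Helper19
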