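import Mathlib.AlgebraicGeometry.Morphisms.RingHomProperties
import Mathlib.AlgebraicGeometry.Morphisms.Smooth
import Mathlib.AlgebraicGeometry.Morphisms.Etale

set_option autoImplicit false
universe u
open CategoryTheory CategoryTheory.Limits AlgebraicGeometry

namespace Groth.Agent.Lib.Helper19

lemma resLE_iff_appLE (P : MorphismProperty Scheme.{u})
    {Q : ∀ {R S : Type u} [CommRing R] [CommRing S], (R →+* S) → Prop}
    [HasRingHomProperty P Q] {X Y : Scheme.{u}} (f : X ⟶ Y)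
    {U : Y.Opens} {V : X.Opens} (hU : IsAffineOpen U) (hV : IsAffineOpen V) (e : V ≤ f ⁻¹ᵁ U) :
    P (f.resLE U V e) ↔ Q (f.appLE U V e).hom := by
  have : IsAffine U := hU
  have : IsAffine V := hV
  rw [HasRingHomProperty.iff_of_isAffine (P := P)]
  have : (RingHom.toMorphismProperty Q).RespectsIso :=
    RingHom.toMorphismProperty_respectsIso_iff.mp
      (HasRingHomProperty.isLocal_ringHomProperty P).respectsIso
  exact (MorphismProperty.arrow_mk_iso_iff (RingHom.toMorphismProperty Q)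
    (arrowResLEAppIso f U V e))

lemma ι_comp_iff_appLE (P : MorphismProperty Scheme.{u})
    {Q : ∀ {R S : Type u} [CommRing R] [CommRing S], (R →+* S) → Prop}
    [HasRingHomProperty P Q] [P.HasOfPostcompProperty @IsOpenImmersion]
    [P.RespectsRight @IsOpenImmersion] {X Y : Scheme.{u}} (f : X ⟶ Y)
    {U : Y.Opens} {V : X.Opens} (hU : IsAffineOpen U) (hV : IsAffineOpen V) (e : V ≤ f ⁻¹ᵁ U) :
    P (V.ι ≫ f) ↔ Q (f.appLE U V e).hom := by
  rw [← resLE_iff_appLE P f hU hV e, ← Scheme.Hom.resLE_comp_ι f e]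
  constructor
  · intro h
    exact P.of_postcomp (W' := @IsOpenImmersion) _ U.ι inferInstance h
  · intro h
    exact MorphismProperty.RespectsRight.postcomp (Q := @IsOpenImmersion) _ inferInstance _ h

end Groth.Agent.Lib.Helper19

namespace Groth.Agent.Lib.Helper19

open RingHom in
lemma exists_nhd_iff_exists_appLE (P : MorphismProperty Scheme.{u})
    {Q : ∀ {R S : Type u} [CommRing R] [CommRing S], (R →+* S) → Prop}
    [HasRingHomProperty P (Locally Q)] (hQi : RespectsIso Q)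
    [P.HasOfPostcompProperty @IsOpenImmersion]
    [P.RespectsRight @IsOpenImmersion] {X S : Scheme.{u}} (f : X ⟶ S) (x : X)
    (V : S.Opens) (hV : IsAffineOpen V) (hxV : f x ∈ V) :
    (∃ W : X.Opens, x ∈ W ∧ P (W.ι ≫ f)) ↔
      ∃ (U : X.Opens) (_ : IsAffineOpen U) (_ : x ∈ U) (e : U ≤ f ⁻¹ᵁ V),
        Q (f.appLE V U e).hom := by
  have hloc : IsZariskiLocalAtSource P := inferInstance
  constructor
  · rintro ⟨W, hxW, hW⟩
    obtain ⟨_, ⟨U₀ : X.Opens, hU₀ : IsAffineOpen U₀, rfl⟩, hxU₀, hU₀W⟩ :=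
      X.isBasis_affineOpens.exists_subset_of_mem_open
        (show x ∈ ((W ⊓ f ⁻¹ᵁ V : X.Opens) : Set X) from ⟨hxW, hxV⟩) (W ⊓ f ⁻¹ᵁ V).2
    have hU₀W' : U₀ ≤ W := fun y hy => (hU₀W hy).1
    have e₀ : U₀ ≤ f ⁻¹ᵁ V := fun y hy => (hU₀W hy).2
    have h1 : P (U₀.ι ≫ f) := by
      rw [← X.homOfLE_ι hU₀W', Category.assoc]
      exact IsZariskiLocalAtSource.comp hW _
    rw [ι_comp_iff_appLE P f hV hU₀ e₀, locally_iff_isLocalization hQi] at h1
    obtain ⟨s, hs, hfs⟩ := h1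
    have hs' := hU₀.iSup_basicOpen_eq_self_iff.mpr hs
    have hx' : x ∈ (⨆ i : (s : Set Γ(X, U₀)), X.basicOpen i.1) := hs'.symm ▸ hxU₀
    obtain ⟨⟨r, hr⟩, hrs⟩ : ∃ r : (s : Set Γ(X, U₀)), x ∈ X.basicOpen r.1 := by
      simpa using hx'
    refine ⟨X.basicOpen r, hU₀.basicOpen r, hrs, (X.basicOpen_le r).trans e₀, ?_⟩
    rw [← f.appLE_map e₀ (homOfLE (X.basicOpen_le r)).op]
    have : IsLocalization.Away r Γ(X, X.basicOpen r) := hU₀.isLocalization_basicOpen r
    exact hfs r hr _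
  · rintro ⟨U, hU, hxU, e, h⟩
    refine ⟨U, hxU, ?_⟩
    rw [ι_comp_iff_appLE P f hV hU e]
    exact locally_of hQi _ h

end Groth.Agent.Lib.Helper19
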