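import Groth.Agent.Lib.Helper19.UnramifiedBaseChange
import Groth.Agent.Lib.Helper19.RingHomProp
import Mathlib.AlgebraicGeometry.Morphisms.FormallyUnramified
import Mathlib.AlgebraicGeometry.Morphisms.Flat

set_option autoImplicit false
universe u
open CategoryTheory CategoryTheory.Limits AlgebraicGeometry

namespace Groth.Agent.Lib.Helper19

lemma formallyUnramified_respectsRight_isOpenImmersion :
    MorphismProperty.RespectsRight @FormallyUnramified.{u} @IsOpenImmersion :=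
  ⟨fun i _ f hf => MorphismProperty.comp_mem _ f i hf inferInstance⟩

/-- membership in a basic open in terms of the prime ideal of a point. -/
lemma mem_basicOpen_iff_notMem_primeIdealOf {X : Scheme.{u}} {U : X.Opens} (hU : IsAffineOpen U)
    (x : X) (hx : x ∈ U) (t : Γ(X, U)) :
    x ∈ X.basicOpen t ↔ t ∉ (hU.primeIdealOf ⟨x, hx⟩).asIdeal := by
  have h2 : hU.fromSpec (hU.primeIdealOf ⟨x, hx⟩) = x := hU.fromSpec_primeIdealOf ⟨x, hx⟩
  conv_lhs => rw [← h2]
  change hU.primeIdealOf ⟨x, hx⟩ ∈ hU.fromSpec ⁻¹ᵁ X.basicOpen t ↔ _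
  rw [hU.fromSpec_preimage_basicOpen]
  rfl

/-- Transfer of formal unramifiedness between sections over a basic open and the localization. -/
lemma formallyUnramified_basicOpen_iff {X : Scheme.{u}} {U : X.Opens} (hU : IsAffineOpen U)
    {A : Type u} [CommRing A] [Algebra A Γ(X, U)] (t : Γ(X, U)) :
    ((X.presheaf.map (homOfLE (X.basicOpen_le t)).op).hom.comp
      (algebraMap A Γ(X, U))).FormallyUnramified ↔
      Algebra.FormallyUnramified A (Localization.Away t) := by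
  let _ : Algebra A Γ(X, X.basicOpen t) :=
    ((X.presheaf.map (homOfLE (X.basicOpen_le t)).op).hom.comp (algebraMap A Γ(X, U))).toAlgebra
  have : IsLocalization.Away t Γ(X, X.basicOpen t) := hU.isLocalization_basicOpen t
  have : IsScalarTower A Γ(X, U) Γ(X, X.basicOpen t) := IsScalarTower.of_algebraMap_eq' rfl
  let e : Localization.Away t ≃ₐ[A] Γ(X, X.basicOpen t) :=
    (IsLocalization.algEquiv (Submonoid.powers t) (Localization.Away t)
      Γ(X, X.basicOpen t)).restrictScalars A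
  change Algebra.FormallyUnramified A Γ(X, X.basicOpen t) ↔
    Algebra.FormallyUnramified A (Localization.Away t)
  exact ⟨fun h => Algebra.FormallyUnramified.of_equiv e.symm,
    fun h => Algebra.FormallyUnramified.of_equiv e⟩

theorem exists_nhd_formallyUnramified_of_pullback {X S S' : Scheme.{u}} (f : X ⟶ S)
    [LocallyOfFiniteType f] (g : S' ⟶ S) (x' : ↑(pullback f g))
    (h : ∃ U' : (pullback f g).Opens, x' ∈ U' ∧ FormallyUnramified (U'.ι ≫ pullback.snd f g)) :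
    ∃ U : X.Opens, (pullback.fst f g).base x' ∈ U ∧ FormallyUnramified (U.ι ≫ f) := by
  have hresp := formallyUnramified_respectsRight_isOpenImmersion.{u}
  obtain ⟨U', hx'U', hU'⟩ := h
  set p₁ := pullback.fst f g with hp₁
  set p₂ := pullback.snd f g with hp₂
  set x := p₁ x' with hx
  obtain ⟨_, ⟨V : S.Opens, hV : IsAffineOpen V, rfl⟩, hxV, -⟩ :=
    S.isBasis_affineOpens.exists_subset_of_mem_open (Set.mem_univ (f x)) isOpen_univ
  have hgV : p₂ x' ∈ g ⁻¹ᵁ V := by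
    change g (p₂ x') ∈ V
    have : g (p₂ x') = f x := by
      rw [← Scheme.Hom.comp_apply, ← pullback.condition, Scheme.Hom.comp_apply]
    rw [this]
    exact hxV
  obtain ⟨_, ⟨V' : S'.Opens, hV' : IsAffineOpen V', rfl⟩, hx'V', hV'V⟩ :=
    S'.isBasis_affineOpens.exists_subset_of_mem_open hgV (g ⁻¹ᵁ V).2
  obtain ⟨_, ⟨U₀ : X.Opens, hU₀ : IsAffineOpen U₀, rfl⟩, hxU₀, hU₀V⟩ :=
    X.isBasis_affineOpens.exists_subset_of_mem_open (show x ∈ f ⁻¹ᵁ V from hxV) (f ⁻¹ᵁ V).2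
  have hV'V' : V' ≤ g ⁻¹ᵁ V := hV'V
  have hU₀V' : U₀ ≤ f ⁻¹ᵁ V := hU₀V
  set W : (pullback f g).Opens := p₁ ⁻¹ᵁ U₀ ⊓ p₂ ⁻¹ᵁ V' with hW
  have hx'W : x' ∈ W := ⟨hxU₀, hx'V'⟩
  have H : IsPullback p₁ p₂ f g := IsPullback.of_hasPullback f g
  have hiso := isIso_pushoutSection_of_isAffineOpen H hV'V' hU₀V' hW hV hV' hU₀
  have hpo := (isIso_pushoutSection_iff H hV'V' hU₀V' hW).mp hiso
  have hWaff : IsAffineOpen W := by
    have : IsAffine V := hV
    have : IsAffine V' := hV'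
    have : IsAffine U₀ := hU₀
    exact .of_isIso (Scheme.Hom.isPullback_resLE H hV'V' hU₀V' hW).isoPullback.hom
  have e₁ : W ≤ p₁ ⁻¹ᵁ U₀ := inf_le_left
  have e₂ : W ≤ p₂ ⁻¹ᵁ V' := inf_le_right
  let _ : Algebra Γ(S, V) Γ(X, U₀) := (f.appLE V U₀ hU₀V').hom.toAlgebra
  let _ : Algebra Γ(S, V) Γ(S', V') := (g.appLE V V' hV'V').hom.toAlgebra
  let _ : Algebra Γ(X, U₀) Γ(pullback f g, W) := (p₁.appLE U₀ W e₁).hom.toAlgebra
  let _ : Algebra Γ(S', V') Γ(pullback f g, W) := (p₂.appLE V' W e₂).hom.toAlgebra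
  let _ : Algebra Γ(S, V) Γ(pullback f g, W) :=
    ((p₁.appLE U₀ W e₁).hom.comp (f.appLE V U₀ hU₀V').hom).toAlgebra
  have : IsScalarTower Γ(S, V) Γ(X, U₀) Γ(pullback f g, W) := .of_algebraMap_eq' rfl
  have : IsScalarTower Γ(S, V) Γ(S', V') Γ(pullback f g, W) := .of_algebraMap_eq' (by
    change (p₁.appLE U₀ W e₁).hom.comp (f.appLE V U₀ hU₀V').hom =
      (p₂.appLE V' W e₂).hom.comp (g.appLE V V' hV'V').hom
    rw [← CommRingCat.hom_comp, ← CommRingCat.hom_comp, hpo.w])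
  have hpush : Algebra.IsPushout Γ(S, V) Γ(S', V') Γ(X, U₀) Γ(pullback f g, W) :=
    CommRingCat.isPushout_iff_isPushout.mp hpo.flip
  have hft : Algebra.FiniteType Γ(S, V) Γ(X, U₀) := f.finiteType_appLE hV hU₀ hU₀V'
  obtain ⟨t, htU', hx't⟩ := hWaff.exists_basicOpen_le ⟨x', hx'U'⟩ hx'W
  have hDt : FormallyUnramified (((pullback f g).basicOpen t).ι ≫ p₂) := by
    rw [← (pullback f g).homOfLE_ι htU', Category.assoc]
    exact IsZariskiLocalAtSource.comp hU' _
  have et : (pullback f g).basicOpen t ≤ p₂ ⁻¹ᵁ V' := ((pullback f g).basicOpen_le t).trans e₂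
  rw [ι_comp_iff_appLE @FormallyUnramified p₂ hV' (hWaff.basicOpen t) et,
    ← p₂.appLE_map e₂ (homOfLE ((pullback f g).basicOpen_le t)).op] at hDt
  have hDt' : Algebra.FormallyUnramified Γ(S', V') (Localization.Away t) :=
    (formallyUnramified_basicOpen_iff hWaff t).mp hDt
  set P' := hWaff.primeIdealOf ⟨x', hx'W⟩ with hP'
  have htP' : t ∉ P'.asIdeal := (mem_basicOpen_iff_notMem_primeIdealOf hWaff x' hx'W t).mp hx't
  have hunr' : P' ∈ Algebra.unramifiedLocus Γ(S', V') Γ(pullback f g, W) :=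
    (Algebra.basicOpen_subset_unramifiedLocus_iff.mpr hDt') htP'
  have hunr := comap_mem_unramifiedLocus_of_isPushout (A := Γ(S, V)) (A' := Γ(S', V'))
    (B := Γ(X, U₀)) P' hunr'
  have hcomap := IsAffineOpen.comap_primeIdealOf_appLE (f := p₁) U₀ hU₀ W hWaff e₁ hx'W
  set P := hU₀.primeIdealOf ⟨x, hxU₀⟩ with hP
  have hPmem : P ∈ Algebra.unramifiedLocus Γ(S, V) Γ(X, U₀) := by
    rw [← hcomap]
    exact hunr
  have : Algebra.IsUnramifiedAt Γ(S, V) P.asIdeal := hPmem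
  obtain ⟨b, hbP, hb⟩ :=
    Algebra.exists_formallyUnramified_of_isUnramifiedAt (R := Γ(S, V)) P.asIdeal
  refine ⟨X.basicOpen b, (mem_basicOpen_iff_notMem_primeIdealOf hU₀ x hxU₀ b).mpr hbP, ?_⟩
  rw [ι_comp_iff_appLE @FormallyUnramified f hV (hU₀.basicOpen b)
    ((X.basicOpen_le b).trans hU₀V'),
    ← f.appLE_map hU₀V' (homOfLE (X.basicOpen_le b)).op]
  exact (formallyUnramified_basicOpen_iff hU₀ b).mpr hb

end Groth.Agent.Lib.Helper19
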