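import Groth.Agent.Lib.Helper19.EtaleFlatLocal
import Groth.Agent.Lib.Helper19.UnramifiedLocus
import Mathlib.AlgebraicGeometry.Morphisms.Etale
import Mathlib.AlgebraicGeometry.Stalk
import Mathlib.RingTheory.Smooth.Fiber
import Mathlib.RingTheory.Smooth.Flat
import Mathlib.RingTheory.Etale.Locus
import Mathlib.RingTheory.Flat.Localization

set_option autoImplicit false
universe u
open CategoryTheory CategoryTheory.Limits AlgebraicGeometry

namespace Groth.Agent.Lib.Helper19

/-- `Spec 𝒪_{Y,y} ⟶ Y` is flat. -/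
instance flat_fromSpecStalk (Y : Scheme.{u}) (y : Y) : Flat (Y.fromSpecStalk y) := by
  obtain ⟨_, ⟨U : Y.Opens, hU : IsAffineOpen U, rfl⟩, hyU, -⟩ :=
    Y.isBasis_affineOpens.exists_subset_of_mem_open (Set.mem_univ y) isOpen_univ
  rw [← hU.fromSpecStalk_eq_fromSpecStalk hyU, IsAffineOpen.fromSpecStalk]
  have : Flat (Spec.map (Y.presheaf.germ U y hyU)) := by
    rw [Flat.SpecMap_iff]
    let _ : Algebra Γ(Y, U) (Y.presheaf.stalk y) :=
      TopCat.Presheaf.algebra_section_stalk Y.presheaf ⟨y, hyU⟩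
    have := hU.isLocalization_stalk ⟨y, hyU⟩
    have hfl : Module.Flat Γ(Y, U) (Y.presheaf.stalk y) :=
      IsLocalization.flat _ (hU.primeIdealOf ⟨y, hyU⟩).asIdeal.primeCompl
    exact hfl
  infer_instance

/-- Pointwise flat descent along a base change which is flat at a point: if `g` is flat at
`y' = snd x'` and the base change `snd : X ×_Y Y' ⟶ Y'` is flat near `x'`, then `f` is flat at
`fst x'`. -/
theorem flat_stalkMap_fst_of_flat {X Y Y' : Scheme.{u}} (f : X ⟶ Y) (g : Y' ⟶ Y)
    (x' : ↑(pullback f g))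
    (hg : (g.stalkMap ((pullback.snd f g).base x')).hom.Flat)
    (h : ∃ U' : (pullback f g).Opens, x' ∈ U' ∧ Flat (U'.ι ≫ pullback.snd f g)) :
    (f.stalkMap ((pullback.fst f g).base x')).hom.Flat := by
  obtain ⟨U', hx'U', hU'⟩ := h
  set y' := (pullback.snd f g).base x' with hy'
  let j := Y'.fromSpecStalk y'
  have hjg : Flat (j ≫ g) := by
    rw [← Scheme.SpecMap_stalkMap_fromSpecStalk]
    have : Flat (Spec.map (g.stalkMap y')) := Flat.SpecMap_iff.mpr hg
    infer_instance
  let π₁ : pullback (pullback.snd f g) j ⟶ pullback f g := pullback.fst _ _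
  let π₂ : pullback (pullback.snd f g) j ⟶ Spec (Y'.presheaf.stalk y') := pullback.snd _ _
  obtain ⟨z, hz₁, hz₂⟩ := Scheme.Pullback.exists_preimage_pullback
    (f := pullback.snd f g) (g := j) x'
    (IsLocalRing.closedPoint (Y'.presheaf.stalk y'))
    (by rw [Scheme.fromSpecStalk_closedPoint])
  have H1 : IsPullback π₁ π₂ (pullback.snd f g) j := IsPullback.of_hasPullback _ _
  have H2 : IsPullback (pullback.fst f g) (pullback.snd f g) f g := IsPullback.of_hasPullback _ _
  have H3 : IsPullback (π₁ ≫ pullback.fst f g) π₂ f (j ≫ g) := H1.paste_horiz H2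
  have hfl1 : Flat (π₁ ≫ pullback.fst f g) := MorphismProperty.of_isPullback H3.flip hjg
  have H4 : IsPullback (π₁ ∣_ U') ((π₁ ⁻¹ᵁ U').ι ≫ π₂) (U'.ι ≫ pullback.snd f g) j :=
    (isPullback_morphismRestrict π₁ U').paste_vert H1
  have hfl2 : Flat ((π₁ ⁻¹ᵁ U').ι ≫ π₂) := MorphismProperty.of_isPullback H4 hU'
  let w : (π₁ ⁻¹ᵁ U').toScheme ⟶ X := (π₁ ⁻¹ᵁ U').ι ≫ (π₁ ≫ pullback.fst f g)
  have hw : Flat w := inferInstance
  have hwf : Flat (w ≫ f) := by
    have e : w ≫ f = ((π₁ ⁻¹ᵁ U').ι ≫ π₂) ≫ (j ≫ g) := by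
      simp only [w, Category.assoc]
      rw [← Category.assoc π₁, H3.w]
    rw [e]
    infer_instance
  have hzU : z ∈ π₁ ⁻¹ᵁ U' := by
    change π₁ z ∈ U'
    rw [hz₁]
    exact hx'U'
  have key := flat_stalkMap_of_flat_comp w f ⟨z, hzU⟩
  have hwz : w ⟨z, hzU⟩ = (pullback.fst f g) x' := by
    change (pullback.fst f g) (π₁ ((π₁ ⁻¹ᵁ U').ι ⟨z, hzU⟩)) = _
    rw [← hz₁]
    rfl
  rw [hwz] at key
  exact key

open TensorProduct IsLocalRing in
/-- Pointwise criterion (ring level): a finitely presented algebra which is unramified at `q` and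
flat at `q` is formally smooth at `q`.  (Same proof as `Algebra.IsSmoothAt.of_formallySmooth_fiber`
in Mathlib; a copy of the auxiliary lemma of the landed `Groth.Agent.S9560`.) -/
lemma formallySmooth_of_flat_of_isUnramifiedAt (A B : Type u) [CommRing A] [CommRing B]
    [Algebra A B] [Algebra.FinitePresentation A B]
    (p : Ideal A) [p.IsPrime] (q : Ideal B) [q.IsPrime] [q.LiesOver p]
    [Algebra (Localization.AtPrime p) (Localization.AtPrime q)]
    [Localization.AtPrime.IsLiesOverAlgebra p q]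
    [Module.Flat (Localization.AtPrime p) (Localization.AtPrime q)]
    [Algebra.IsUnramifiedAt A q] :
    Algebra.FormallySmooth A (Localization.AtPrime q) := by
  let Rp := Localization.AtPrime p
  let Sp := Localization (Algebra.algebraMapSubmonoid B p.primeCompl)
  let Sq := Localization.AtPrime q
  let f : Sp →ₐ[B] Sq := IsLocalization.liftAlgHom (M := Algebra.algebraMapSubmonoid B p.primeCompl)
        (f := Algebra.ofId _ _) (by
      rintro ⟨_, x, hx, rfl⟩
      simpa using! IsLocalization.map_units (M := q.primeCompl) Sq ⟨algebraMap _ _ x,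
        by simp_all [q.over_def p]⟩)
  algebraize [f.toRingHom]
  have : IsScalarTower A Sp Sq := .to₁₃₄ _ B _ _
  have : IsScalarTower Rp Sp Sq := .of_algebraMap_eq' <| by
    apply IsLocalization.ringHom_ext p.primeCompl
    simp only [RingHom.comp_assoc, ← IsScalarTower.algebraMap_eq]
  have : IsLocalization (Algebra.algebraMapSubmonoid Sp q.primeCompl) Sq :=
    .isLocalization_of_submonoid_le _ _ (Algebra.algebraMapSubmonoid B p.primeCompl) _
    (by rintro _ ⟨x, hx, rfl⟩; simp_all [q.over_def p])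
  have : Algebra.FinitePresentation Rp Sp := by
    have : Algebra.IsPushout A Rp B Sp :=
      .symm <| Algebra.isPushout_of_isLocalization p.primeCompl _ _ _
    exact .equiv (Algebra.IsPushout.equiv A Rp B Sp)
  have : Algebra.EssFiniteType Rp Sq := .of_comp A _ _
  have : Algebra.FormallyUnramified Rp Sq := .of_restrictScalars A _ _
  have : Algebra.FormallyEtale (ResidueField Rp) (ResidueField Rp ⊗[Rp] Sq) :=
    Algebra.FormallyEtale.of_formallyUnramified_of_field _ _
  have := Algebra.FormallySmooth.of_formallySmooth_residueField_tensor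
    (R := Rp) (S := Sq) (P := Sp) (Algebra.algebraMapSubmonoid _ q.primeCompl)
  exact .comp A Rp Sq

/-- Transfer of a ring hom property respecting isomorphisms between sections over a basic open
and the localization. -/
lemma basicOpen_iff_of_respectsIso
    {Q : ∀ {R S : Type u} [CommRing R] [CommRing S], (R →+* S) → Prop}
    (hQ : RingHom.RespectsIso Q) {X : Scheme.{u}} {U : X.Opens} (hU : IsAffineOpen U)
    {A : Type u} [CommRing A] [Algebra A Γ(X, U)] (t : Γ(X, U)) :
    Q ((X.presheaf.map (homOfLE (X.basicOpen_le t)).op).hom.comp (algebraMap A Γ(X, U))) ↔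
      Q (algebraMap A (Localization.Away t)) := by
  have : IsLocalization.Away t Γ(X, X.basicOpen t) := hU.isLocalization_basicOpen t
  let e : Localization.Away t ≃+* Γ(X, X.basicOpen t) :=
    (IsLocalization.algEquiv (Submonoid.powers t) (Localization.Away t)
      Γ(X, X.basicOpen t)).toRingEquiv
  have he : (X.presheaf.map (homOfLE (X.basicOpen_le t)).op).hom.comp (algebraMap A Γ(X, U)) =
      e.toRingHom.comp (algebraMap A (Localization.Away t)) := by
    ext a
    simp [e, IsScalarTower.algebraMap_apply A Γ(X, U) (Localization.Away t),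
      RingHom.algebraMap_toAlgebra]
  rw [he]
  refine ⟨fun h => ?_, fun h => hQ.1 _ e h⟩
  have h2 := hQ.1 _ e.symm h
  have h3 : e.symm.toRingHom.comp (e.toRingHom.comp (algebraMap A (Localization.Away t))) =
      algebraMap A (Localization.Away t) := by
    ext a
    simp
  rwa [h3] at h2

/-- Pointwise criterion (scheme level): a morphism locally of finite presentation which is
formally unramified near `x` and flat at `x` is étale near `x`. -/
theorem exists_nhd_etale_of_flat_stalkMap {X Y : Scheme.{u}} (f : X ⟶ Y)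
    [LocallyOfFinitePresentation f] (x : X)
    (hu : ∃ U : X.Opens, x ∈ U ∧ FormallyUnramified (U.ι ≫ f))
    (hflat : (f.stalkMap x).hom.Flat) : ∃ U : X.Opens, x ∈ U ∧ Etale (U.ι ≫ f) := by
  have hresp := formallyUnramified_respectsRight_isOpenImmersion.{u}
  have hresp' : MorphismProperty.RespectsRight @Etale.{u} @IsOpenImmersion :=
    ⟨fun i _ f hf => MorphismProperty.comp_mem _ f i hf inferInstance⟩
  obtain ⟨U₁, hxU₁, hU₁⟩ := hu
  obtain ⟨_, ⟨V : Y.Opens, hV : IsAffineOpen V, rfl⟩, hxV, -⟩ :=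
    Y.isBasis_affineOpens.exists_subset_of_mem_open (Set.mem_univ (f x)) isOpen_univ
  obtain ⟨_, ⟨W : X.Opens, hW : IsAffineOpen W, rfl⟩, hxW, hWle⟩ :=
    X.isBasis_affineOpens.exists_subset_of_mem_open
      (show x ∈ f ⁻¹ᵁ V ⊓ U₁ from ⟨hxV, hxU₁⟩) (f ⁻¹ᵁ V ⊓ U₁).2
  have hWV : W ≤ f ⁻¹ᵁ V := fun a ha => (hWle ha).1
  have hWU₁ : W ≤ U₁ := fun a ha => (hWle ha).2
  have hunrW : FormallyUnramified (W.ι ≫ f) := by
    rw [← X.homOfLE_ι hWU₁, Category.assoc]
    exact IsZariskiLocalAtSource.comp hU₁ _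
  rw [ι_comp_iff_appLE @FormallyUnramified f hV hW hWV] at hunrW
  have hfp := f.finitePresentation_appLE hV hW hWV
  algebraize [(f.appLE V W hWV).hom]
  let p := (hV.primeIdealOf ⟨f x, hWV hxW⟩).asIdeal
  let q := (hW.primeIdealOf ⟨x, hxW⟩).asIdeal
  have : q.LiesOver p :=
    ⟨congr($(IsAffineOpen.comap_primeIdealOf_appLE V hV W hW hWV hxW).1).symm⟩
  let := Localization.AtPrime.algebraOfLiesOver p q
  have hfl : Module.Flat (Localization.AtPrime p) (Localization.AtPrime q) := by
    have := (RingHom.Flat.respectsIso.arrow_mk_iso_iff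
      (IsAffineOpen.arrowStalkMapIso f V hV W hW hWV hxW)).mp hflat
    exact this
  have hunrA : Algebra.FormallyUnramified Γ(Y, V) Γ(X, W) := hunrW
  have : Algebra.IsUnramifiedAt Γ(Y, V) q := by
    have : Algebra.FormallyUnramified Γ(X, W) (Localization.AtPrime q) :=
      Algebra.FormallyUnramified.of_isLocalization q.primeCompl
    exact Algebra.FormallyUnramified.comp Γ(Y, V) Γ(X, W) (Localization.AtPrime q)
  have hsm := formallySmooth_of_flat_of_isUnramifiedAt Γ(Y, V) Γ(X, W) p q
  have het : Algebra.IsEtaleAt Γ(Y, V) q :=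
    Algebra.FormallyEtale.of_formallyUnramified_and_formallySmooth
  obtain ⟨t, htq, hEt⟩ := Algebra.exists_etale_of_isEtaleAt (R := Γ(Y, V)) q
  refine ⟨X.basicOpen t, (mem_basicOpen_iff_notMem_primeIdealOf hW x hxW t).mpr htq, ?_⟩
  rw [ι_comp_iff_appLE @Etale f hV (hW.basicOpen t) ((X.basicOpen_le t).trans hWV),
    ← f.appLE_map hWV (homOfLE (X.basicOpen_le t)).op]
  exact (basicOpen_iff_of_respectsIso RingHom.Etale.respectsIso hW t).mpr
    (RingHom.etale_algebraMap.mpr hEt)

end Groth.Agent.Lib.Helper19
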