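import Groth.Agent.Lib.Helper19.UnramifiedLocus
import Mathlib.AlgebraicGeometry.Fiber
import Mathlib.AlgebraicGeometry.Morphisms.UniversallyInjective
import Mathlib.AlgebraicGeometry.Morphisms.IsIso

set_option autoImplicit false
universe u
open CategoryTheory CategoryTheory.Limits AlgebraicGeometry

namespace Groth.Agent.Lib.Helper19

/-- `FormallyUnramified` can be checked on an open neighbourhood of each point. -/
lemma formallyUnramified_of_forall_exists_nhd {X Y : Scheme.{u}} (f : X ⟶ Y)
    (h : ∀ x : X, ∃ U : X.Opens, x ∈ U ∧ FormallyUnramified (U.ι ≫ f)) :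
    FormallyUnramified f := by
  choose U hxU hU using h
  rw [IsZariskiLocalAtSource.iff_of_iSup_eq_top (P := @FormallyUnramified) U]
  · exact hU
  · rw [eq_top_iff]
    intro x _
    exact TopologicalSpace.Opens.mem_iSup.mpr ⟨x, hxU x⟩

/-- Descent of formal unramifiedness along an arbitrary base change which is surjective on the
source: if `X' = X ×_S S' → S'` is formally unramified and `X' → X` is surjective, then `X → S`
(locally of finite type) is formally unramified. -/
lemma formallyUnramified_of_isPullback_of_surjective {X S X' S' : Scheme.{u}} (f : X ⟶ S)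
    [LocallyOfFiniteType f] (g : S' ⟶ S) (g' : X' ⟶ X) (f' : X' ⟶ S')
    (H : IsPullback g' f' f g) [FormallyUnramified f'] (hg' : Function.Surjective g') :
    FormallyUnramified f := by
  refine formallyUnramified_of_forall_exists_nhd f fun x => ?_
  obtain ⟨x', rfl⟩ := hg' x
  let e := H.isoPullback
  have he₁ : e.hom ≫ pullback.fst f g = g' := H.isoPullback_hom_fst
  have he₂ : e.hom ≫ pullback.snd f g = f' := H.isoPullback_hom_snd
  have h2 : FormallyUnramified (pullback.snd f g) := by
    have : pullback.snd f g = e.inv ≫ f' := by rw [← he₂, Iso.inv_hom_id_assoc]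
    rw [this]
    exact MorphismProperty.comp_mem _ _ _ (inferInstance : FormallyUnramified e.inv) ‹_›
  obtain ⟨U, hxU, hU⟩ := exists_nhd_formallyUnramified_of_pullback f g (e.hom x')
    ⟨⊤, trivial, MorphismProperty.comp_mem _ _ _
      (inferInstance : FormallyUnramified (⊤ : (pullback f g).Opens).ι) h2⟩
  refine ⟨U, ?_, hU⟩
  rwa [← Scheme.Hom.comp_apply, he₁] at hxU

/-- Pointwise descent of unramifiedness along an arbitrary pullback square. -/
lemma exists_nhd_formallyUnramified_of_isPullback {X S X' S' : Scheme.{u}} (f : X ⟶ S)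
    [LocallyOfFiniteType f] (g : S' ⟶ S) (g' : X' ⟶ X) (f' : X' ⟶ S')
    (H : IsPullback g' f' f g) (x' : X')
    (h : ∃ U' : X'.Opens, x' ∈ U' ∧ FormallyUnramified (U'.ι ≫ f')) :
    ∃ U : X.Opens, g' x' ∈ U ∧ FormallyUnramified (U.ι ≫ f) := by
  obtain ⟨V, hxV, hV⟩ := h
  let e := H.isoPullback
  have he₁ : e.hom ≫ pullback.fst f g = g' := H.isoPullback_hom_fst
  have he₂ : e.inv ≫ f' = pullback.snd f g := H.isoPullback_inv_snd
  obtain ⟨U, hxU, hU⟩ := exists_nhd_formallyUnramified_of_pullback f g (e.hom x')
    ⟨e.inv ⁻¹ᵁ V, by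
      change e.inv (e.hom x') ∈ V
      rw [← Scheme.Hom.comp_apply, e.hom_inv_id]
      exact hxV, by
      have : (e.inv ⁻¹ᵁ V).ι ≫ pullback.snd f g = (e.inv ∣_ V) ≫ (V.ι ≫ f') := by
        rw [← he₂, ← Category.assoc, ← Category.assoc, morphismRestrict_ι]
      rw [this]
      exact MorphismProperty.comp_mem _ _ _ (inferInstance : FormallyUnramified (e.inv ∣_ V)) hV⟩
  refine ⟨U, ?_, hU⟩
  rwa [← Scheme.Hom.comp_apply, he₁] at hxU

/-- The induced map on fibres over a point of the base `S` is a base change of `f`. -/
lemma isPullback_fiberMap {X Y S : Scheme.{u}} (f : X ⟶ Y) (g : Y ⟶ S) (h : X ⟶ S)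
    (w : f ≫ g = h) (s : S) :
    IsPullback (h.fiberι s)
      (pullback.map h (S.fromSpecResidueField s) g (S.fromSpecResidueField s) f (𝟙 _) (𝟙 _)
        (by rw [Category.comp_id, w]) (by rw [Category.comp_id, Category.id_comp]))
      f (g.fiberι s) := by
  subst w
  set φ := pullback.map (f ≫ g) (S.fromSpecResidueField s) g (S.fromSpecResidueField s) f
    (𝟙 _) (𝟙 _) (by rw [Category.comp_id]) (by rw [Category.comp_id, Category.id_comp]) with hφ
  have hφ₁ : φ ≫ pullback.fst g (S.fromSpecResidueField s) =
      pullback.fst (f ≫ g) (S.fromSpecResidueField s) ≫ f := pullback.lift_fst _ _ _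
  have hφ₂ : φ ≫ pullback.snd g (S.fromSpecResidueField s) =
      pullback.snd (f ≫ g) (S.fromSpecResidueField s) := by
    rw [hφ, pullback.map]
    erw [pullback.lift_snd]
    rw [Category.comp_id]
  have Hright : IsPullback (pullback.snd g (S.fromSpecResidueField s))
      (pullback.fst g (S.fromSpecResidueField s)) (S.fromSpecResidueField s) g :=
    (IsPullback.of_hasPullback _ _).flip
  have Houter : IsPullback (φ ≫ pullback.snd g (S.fromSpecResidueField s))
      (pullback.fst (f ≫ g) (S.fromSpecResidueField s)) (S.fromSpecResidueField s) (f ≫ g) := by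
    rw [hφ₂]
    exact (IsPullback.of_hasPullback _ _).flip
  exact (IsPullback.of_right Houter hφ₁ Hright).flip

/-- Fibre criterion: a morphism locally of finite type with formally unramified fibres is formally
unramified. -/
theorem formallyUnramified_of_fiberToSpecResidueField {X Y : Scheme.{u}} (f : X ⟶ Y)
    [LocallyOfFiniteType f] (h : ∀ y, FormallyUnramified (f.fiberToSpecResidueField y)) :
    FormallyUnramified f := by
  refine formallyUnramified_of_forall_exists_nhd f fun x => ?_
  have := h (f x)
  obtain ⟨U, hxU, hU⟩ := exists_nhd_formallyUnramified_of_pullback f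
    (Y.fromSpecResidueField (f x)) (f.asFiber x) ⟨⊤, trivial, MorphismProperty.comp_mem _ _ _
      (inferInstance : FormallyUnramified (⊤ : (f.fiber (f x)).Opens).ι) this⟩
  refine ⟨U, ?_, hU⟩
  have : (pullback.fst f (Y.fromSpecResidueField (f x))) (f.asFiber x) = x := f.fiberι_asFiber x
  rwa [this] at hxU

/-- A morphism locally of finite type all of whose fibres are monomorphisms is a monomorphism. -/
theorem mono_of_mono_fiberToSpecResidueField {X Y : Scheme.{u}} (f : X ⟶ Y)
    [LocallyOfFiniteType f] (h : ∀ y, Mono (f.fiberToSpecResidueField y)) : Mono f := by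
  -- formally unramified
  have hunr : FormallyUnramified f := by
    refine formallyUnramified_of_fiberToSpecResidueField f fun y => ?_
    have := h y
    have : IsIso (pullback.diagonal (f.fiberToSpecResidueField y)) :=
      (pullback.isIso_diagonal_iff _).mpr inferInstance
    infer_instance
  -- universally injective
  have huniv : UniversallyInjective f := by
    refine ((tfae_universallyInjective f).out 1 0).mp ?_
    intro K _ g₁ g₂ hg
    dsimp only at hg
    -- the common composite factors through the residue field of its image point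
    let t : Spec (.of K) ⟶ Y := g₁ ≫ f
    let y : Y := t (IsLocalRing.closedPoint K)
    let φ := Scheme.descResidueField (Scheme.stalkClosedPointTo t)
    have ht : Spec.map φ ≫ Y.fromSpecResidueField y = t :=
      Scheme.descResidueField_stalkClosedPointTo_fromSpecResidueField K Y t
    have := h y
    have : Mono (pullback.snd f (Y.fromSpecResidueField y)) := h y
    let l₁ : Spec (.of K) ⟶ pullback f (Y.fromSpecResidueField y) :=
      pullback.lift g₁ (Spec.map φ) ht.symm
    let l₂ : Spec (.of K) ⟶ pullback f (Y.fromSpecResidueField y) :=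
      pullback.lift g₂ (Spec.map φ) (by rw [ht, ← hg])
    have hl : l₁ = l₂ := by
      rw [← cancel_mono (pullback.snd f (Y.fromSpecResidueField y))]
      simp only [l₁, l₂, pullback.lift_snd]
    have h₁ : l₁ ≫ pullback.fst _ _ = g₁ := pullback.lift_fst _ _ _
    have h₂ : l₂ ≫ pullback.fst _ _ = g₂ := pullback.lift_fst _ _ _
    rw [← h₁, ← h₂, hl]
  have : Surjective (pullback.diagonal f) := (UniversallyInjective.iff_diagonal f).mp huniv
  have : IsIso (pullback.diagonal f) :=
    (isIso_iff_isOpenImmersion_and_surjective _).mpr ⟨inferInstance, inferInstance⟩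
  exact (pullback.isIso_diagonal_iff f).mp this

end Groth.Agent.Lib.Helper19
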