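import Mathlib.Order.KrullDimension
import Mathlib.Topology.KrullDimension
import Mathlib.Topology.Sober

set_option autoImplicit false

namespace Groth.Agent.Lib.Helper19

lemma exists_ltSeries_of_lifting {α β : Type*} [PartialOrder α] [PartialOrder β] (f : α → β)
    (hlift : ∀ (a : α) (b : β), f a < b → ∃ a', a < a' ∧ f a' = b)
    (l : LTSeries β) (a : α) (ha : f a = l.head) :
    ∃ L : LTSeries α, L.length = l.length ∧ L.head = a := by
  induction l using RelSeries.inductionOn generalizing a with
  | singleton q => exact ⟨RelSeries.singleton _ a, rfl, rfl⟩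
  | cons l q lt ih =>
    simp only [RelSeries.head_cons] at ha
    obtain ⟨a', haa', ha'⟩ := hlift a l.head (by
      rw [ha]
      exact lt)
    obtain ⟨L, len, head⟩ := ih a' ha'
    refine ⟨L.cons a (by
      rw [head]
      exact haa'), by simpa using len, by simp⟩

lemma krullDim_le_of_lifting {α β : Type*} [PartialOrder α] [PartialOrder β] (f : α → β)
    (hsurj : Function.Surjective f)
    (hlift : ∀ (a : α) (b : β), f a < b → ∃ a', a < a' ∧ f a' = b) :
    Order.krullDim β ≤ Order.krullDim α := by
  refine iSup_le fun l => ?_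
  obtain ⟨a, ha⟩ := hsurj l.head
  obtain ⟨L, hL, -⟩ := exists_ltSeries_of_lifting f hlift l a ha
  rw [← hL]
  exact Order.LTSeries.length_le_krullDim L

attribute [local instance] specializationOrder

lemma topologicalKrullDim_eq_krullDim_points (X : Type*) [TopologicalSpace X] [QuasiSober X]
    [T0Space X] : topologicalKrullDim X = Order.krullDim X :=
  Order.krullDim_eq_of_orderIso irreducibleSetEquivPoints

lemma topologicalKrullDim_le_of_strict {X Y : Type*} [TopologicalSpace X] [QuasiSober X]
    [T0Space X] [TopologicalSpace Y] [QuasiSober Y] [T0Space Y] (f : X → Y)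
    (hf : Continuous f) (hstrict : ∀ x x' : X, x ⤳ x' → f x = f x' → x = x') :
    topologicalKrullDim X ≤ topologicalKrullDim Y := by
  rw [topologicalKrullDim_eq_krullDim_points, topologicalKrullDim_eq_krullDim_points]
  refine Order.krullDim_le_of_strictMono f ?_
  intro a b hab
  have h1 : b ⤳ a := hab.le
  refine lt_of_le_of_ne (h1.map hf) ?_
  intro h
  exact hab.ne (hstrict b a h1 h.symm).symm

lemma topologicalKrullDim_le_of_specializingMap {X Y : Type*} [TopologicalSpace X] [QuasiSober X]
    [T0Space X] [TopologicalSpace Y] [QuasiSober Y] [T0Space Y] (f : X → Y)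
    (hsurj : Function.Surjective f) (hf : SpecializingMap f) :
    topologicalKrullDim Y ≤ topologicalKrullDim X := by
  rw [topologicalKrullDim_eq_krullDim_points, topologicalKrullDim_eq_krullDim_points,
    ← Order.krullDim_orderDual (α := Y), ← Order.krullDim_orderDual (α := X)]
  refine krullDim_le_of_lifting (α := Xᵒᵈ) (β := Yᵒᵈ)
    (fun a => OrderDual.toDual (f (OrderDual.ofDual a))) ?_ ?_
  · intro b
    obtain ⟨a, ha⟩ := hsurj (OrderDual.ofDual b)
    exact ⟨OrderDual.toDual a, by simp [ha]⟩
  · intro a b hab
    have h1 : f (OrderDual.ofDual a) ⤳ OrderDual.ofDual b := hab.le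
    obtain ⟨a', ha', hfa'⟩ := hf h1
    refine ⟨OrderDual.toDual a', lt_of_le_of_ne ha' ?_, by simp [hfa']⟩
    intro h
    apply hab.ne
    subst h
    exact congrArg OrderDual.toDual hfa'

end Groth.Agent.Lib.Helper19
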