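import Mathlib
import Groth.Prelude.Def_Magnet4
import Groth.Agent.Lib.Helper5.AMonPts
import Groth.Agent.Lib.Helper18.MonPts
import Groth.Agent.Lib.Helper18.AffLine.Defs
import Groth.Agent.Lib.Helper18.AffLine.Diag

/-!
# The induced action on `X ×_Y X` for an equivariant `f : X ⟶ Y` (helper19)

Piece PACT of helper18's call for S18959 (msg 3640): for a monoid object `M` over `S` acting on `X`
and `Y` and an equivariant `f : X ⟶ Y`, the fibre product `PO f = X ×_Y X` carries the diagonal action,
for which both projections and the diagonal are equivariant.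

* `exists_act_general` (any monoid object `M`), `exists_act` (the exact PACT signature, `M = AMonS S ℕ`).
-/

set_option autoImplicit false
universe u
open CategoryTheory CategoryTheory.Limits MonoidalCategory CartesianMonoidalCategory MonObj
  AlgebraicGeometry Opposite
open Magnet Groth.Agent.Lib.Helper18.AffLine

namespace Groth.Agent.Lib.Helper19.ALPACT

section General

variable {S : Scheme.{u}} {M X Y : Over S} [MonObj M] (f : X ⟶ Y) (a : MonAct M X) (b : MonAct M Y)

theorem act_condition (hf : MonAct.IsEquivariant a b f) :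
    ((M ◁ pr1 f) ≫ a.act) ≫ f = ((M ◁ pr2 f) ≫ a.act) ≫ f := by
  unfold MonAct.IsEquivariant at hf
  rw [Category.assoc, Category.assoc, hf, ← MonoidalCategory.whiskerLeft_comp_assoc,
    ← MonoidalCategory.whiskerLeft_comp_assoc, pr_condition]

/-- the diagonal action morphism on `X ×_Y X`. -/
noncomputable def actPO (hf : MonAct.IsEquivariant a b f) : M ⊗ PO f ⟶ PO f :=
  POlift f ((M ◁ pr1 f) ≫ a.act) ((M ◁ pr2 f) ≫ a.act) (act_condition f a b hf)

theorem actPO_pr1 (hf : MonAct.IsEquivariant a b f) :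
    actPO f a b hf ≫ pr1 f = (M ◁ pr1 f) ≫ a.act := POlift_pr1 _ _ _ _

theorem actPO_pr2 (hf : MonAct.IsEquivariant a b f) :
    actPO f a b hf ≫ pr2 f = (M ◁ pr2 f) ≫ a.act := POlift_pr2 _ _ _ _

theorem lift_actPO_pr1 (hf : MonAct.IsEquivariant a b f) {T : Over S} (g : T ⟶ M)
    (x : T ⟶ PO f) : (lift g x ≫ actPO f a b hf) ≫ pr1 f = lift g (x ≫ pr1 f) ≫ a.act := by
  rw [Category.assoc, actPO_pr1, lift_whiskerLeft_assoc]

theorem lift_actPO_pr2 (hf : MonAct.IsEquivariant a b f) {T : Over S} (g : T ⟶ M)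
    (x : T ⟶ PO f) : (lift g x ≫ actPO f a b hf) ≫ pr2 f = lift g (x ≫ pr2 f) ≫ a.act := by
  rw [Category.assoc, actPO_pr2, lift_whiskerLeft_assoc]

/-- the diagonal action on `X ×_Y X`. -/
noncomputable def cPO (hf : MonAct.IsEquivariant a b f) : MonAct M (PO f) :=
  MonAct.mk' (actPO f a b hf)
    (fun T x => by
      apply PO_hom_ext
      · rw [lift_actPO_pr1, a.lift_one_act]
      · rw [lift_actPO_pr2, a.lift_one_act])
    (fun T g h x => by
      apply PO_hom_ext
      · rw [lift_actPO_pr1, lift_actPO_pr1, lift_actPO_pr1, a.lift_mul_act]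
      · rw [lift_actPO_pr2, lift_actPO_pr2, lift_actPO_pr2, a.lift_mul_act])

theorem cPO_act (hf : MonAct.IsEquivariant a b f) : (cPO f a b hf).act = actPO f a b hf := rfl

theorem exists_act_general (hf : MonAct.IsEquivariant a b f) :
    ∃ c : MonAct M (PO f), MonAct.IsEquivariant c a (pr1 f) ∧
      MonAct.IsEquivariant c a (pr2 f) ∧ MonAct.IsEquivariant a c (diagO f) := by
  refine ⟨cPO f a b hf, ?_, ?_, ?_⟩
  · exact actPO_pr1 f a b hf
  · exact actPO_pr2 f a b hf
  · unfold MonAct.IsEquivariant
    rw [cPO_act]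
    apply PO_hom_ext
    · rw [Category.assoc, diagO_pr1, Category.comp_id, Category.assoc, actPO_pr1,
        ← MonoidalCategory.whiskerLeft_comp_assoc, diagO_pr1, MonoidalCategory.whiskerLeft_id,
        Category.id_comp]
    · rw [Category.assoc, diagO_pr2, Category.comp_id, Category.assoc, actPO_pr2,
        ← MonoidalCategory.whiskerLeft_comp_assoc, diagO_pr2, MonoidalCategory.whiskerLeft_id,
        Category.id_comp]

end General

/-- **PACT.** -/
theorem exists_act {S : Scheme.{u}} {X Y : Over S} (f : X ⟶ Y) (a : MonAct (AMonS S ℕ) X)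
    (b : MonAct (AMonS S ℕ) Y) (hf : MonAct.IsEquivariant a b f) :
    ∃ c : MonAct (AMonS S ℕ) (PO f), MonAct.IsEquivariant c a (pr1 f) ∧
      MonAct.IsEquivariant c a (pr2 f) ∧ MonAct.IsEquivariant a c (diagO f) :=
  exists_act_general f a b hf

end Groth.Agent.Lib.Helper19.ALPACT
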