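import Groth.Agent.Lib.Helper19.EtalePointwise
import Mathlib.AlgebraicGeometry.Noetherian
import Mathlib.RingTheory.Unramified.LocalRing

set_option autoImplicit false
universe u
open CategoryTheory CategoryTheory.Limits AlgebraicGeometry

namespace Groth.Agent.Lib.Helper19

/-- If `f` is formally unramified near `x`, its stalk map at `x` is formally unramified. -/
lemma formallyUnramified_stalkMap_of_nhd {X Y : Scheme.{u}} (f : X ⟶ Y) (x : X)
    (h : ∃ U : X.Opens, x ∈ U ∧ FormallyUnramified (U.ι ≫ f)) :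
    (f.stalkMap x).hom.FormallyUnramified := by
  obtain ⟨U, hxU, hU⟩ := h
  let xU : U.toScheme := ⟨x, hxU⟩
  have h1 := FormallyUnramified.stalkMap (U.ι ≫ f) xU
  rw [Scheme.Hom.stalkMap_comp] at h1
  have hiso : IsIso (U.ι.stalkMap xU) := inferInstance
  exact (RingHom.FormallyUnramified.respectsIso.cancel_right_isIso (f.stalkMap (U.ι xU))
    (U.ι.stalkMap xU)).mp h1

/-- If the stalk map of a morphism locally of finite type at `x` is formally unramified, then the
morphism is formally unramified near `x`. -/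
theorem exists_nhd_formallyUnramified_of_stalkMap {X Y : Scheme.{u}} (f : X ⟶ Y)
    [LocallyOfFiniteType f] (x : X) (h : (f.stalkMap x).hom.FormallyUnramified) :
    ∃ U : X.Opens, x ∈ U ∧ FormallyUnramified (U.ι ≫ f) := by
  have hresp := formallyUnramified_respectsRight_isOpenImmersion.{u}
  obtain ⟨_, ⟨V : Y.Opens, hV : IsAffineOpen V, rfl⟩, hxV, -⟩ :=
    Y.isBasis_affineOpens.exists_subset_of_mem_open (Set.mem_univ (f x)) isOpen_univ
  obtain ⟨_, ⟨W : X.Opens, hW : IsAffineOpen W, rfl⟩, hxW, hWV⟩ :=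
    X.isBasis_affineOpens.exists_subset_of_mem_open
      (show x ∈ f ⁻¹ᵁ V from hxV) (f ⁻¹ᵁ V).2
  have hWV : W ≤ f ⁻¹ᵁ V := hWV
  have hft := f.finiteType_appLE hV hW hWV
  algebraize [(f.appLE V W hWV).hom]
  let p := (hV.primeIdealOf ⟨f x, hWV hxW⟩).asIdeal
  let q := (hW.primeIdealOf ⟨x, hxW⟩).asIdeal
  have : q.LiesOver p :=
    ⟨congr($(IsAffineOpen.comap_primeIdealOf_appLE V hV W hW hWV hxW).1).symm⟩
  let := Localization.AtPrime.algebraOfLiesOver p q
  have hfu : Algebra.FormallyUnramified (Localization.AtPrime p) (Localization.AtPrime q) := by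
    have := (RingHom.FormallyUnramified.respectsIso.arrow_mk_iso_iff
      (IsAffineOpen.arrowStalkMapIso f V hV W hW hWV hxW)).mp h
    exact this
  have : Algebra.IsUnramifiedAt Γ(Y, V) q :=
    Algebra.FormallyUnramified.comp _ (Localization.AtPrime p) _
  obtain ⟨b, hbq, hb⟩ :=
    Algebra.exists_formallyUnramified_of_isUnramifiedAt (R := Γ(Y, V)) q
  refine ⟨X.basicOpen b, (mem_basicOpen_iff_notMem_primeIdealOf hW x hxW b).mpr hbq, ?_⟩
  rw [ι_comp_iff_appLE @FormallyUnramified f hV (hW.basicOpen b)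
    ((X.basicOpen_le b).trans hWV),
    ← f.appLE_map hWV (homOfLE (X.basicOpen_le b)).op]
  exact (formallyUnramified_basicOpen_iff hW b).mpr hb

end Groth.Agent.Lib.Helper19
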