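import Mathlib
import Groth.Prelude.Def_FDesc
import Groth.Prelude.Def_FlatMod2
import Groth.Prelude.Def_CohB1
import Groth.Agent.Lib.Helper21.NowhereDense
import Groth.Agent.Lib.Helper21.CohSupport

/-!
# Irreducible components of the support of a coherent module and associated points (helper19)

Sub-lemma Q2 of helper67's call for S4965 (msg 3427), plus the shared toolkit used by Q3:

* `Top.closure_singleton_mem_irreducibleComponents_of_maximal`,
  `Top.exists_maximal_of_mem_irreducibleComponents`, `Top.exists_maximal_specializes`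
  (quasi-sober T0 spaces; same statements as helper73's `DimFormula/GenericFibre`, re-proved here to
  keep the import closure small);
* `isClosed_suppSet`, `mem_ass_of_maximal`, `eq_of_ass_of_specializes`,
  `topologicalKrullDim_closure_eq`;
* `exists_ass_of_mem_irreducibleComponents` (Q2).
-/

set_option autoImplicit false
set_option linter.style.haveILetI false
universe u
open CategoryTheory AlgebraicGeometry

namespace Groth.Agent.Lib.Helper19.CompDimQ2

namespace Top

variable {W : Type*} [TopologicalSpace W] [QuasiSober W]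

/-- The closure of a point without proper generizations is an irreducible component. -/
lemma closure_singleton_mem_irreducibleComponents_of_maximal (ζ : W)
    (hmax : ∀ t : W, t ⤳ ζ → t = ζ) : closure ({ζ} : Set W) ∈ irreducibleComponents W := by
  rw [irreducibleComponents_eq_maximals_closed]
  refine ⟨⟨isClosed_closure, isIrreducible_singleton.closure⟩, ?_⟩
  rintro T ⟨hTc, hTi⟩ hsub
  obtain ⟨t, ht⟩ := QuasiSober.sober hTi hTc
  have hζT : ζ ∈ T := hsub (subset_closure rfl)
  have h1 : t ⤳ ζ := by
    rw [specializes_iff_mem_closure, ht.def]; exact hζT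
  have h2 := hmax t h1
  rw [← ht.def, h2]

/-- Irreducible components of a quasi-sober T0 space are closures of points without proper
generizations. -/
lemma exists_maximal_of_mem_irreducibleComponents [T0Space W] (Z : Set W)
    (hZ : Z ∈ irreducibleComponents W) :
    ∃ ζ : W, closure ({ζ} : Set W) = Z ∧ ∀ t : W, t ⤳ ζ → t = ζ := by
  have hZc := isClosed_of_mem_irreducibleComponents Z hZ
  obtain ⟨ζ, hζ⟩ := QuasiSober.sober hZ.1 hZc
  refine ⟨ζ, hζ.def, ?_⟩
  intro t ht
  have h1 : Z ⊆ closure ({t} : Set W) := by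
    rw [← hζ.def]
    exact ht.closure_subset
  have h2 : closure ({t} : Set W) ⊆ Z := hZ.2 isIrreducible_singleton.closure h1
  have h3 : ζ ⤳ t := by
    rw [specializes_iff_mem_closure, hζ.def]
    exact h2 (subset_closure rfl)
  exact (ht.antisymm h3).eq

/-- Every point of a quasi-sober T0 space has a generization without proper generizations. -/
lemma exists_maximal_specializes [T0Space W] (ζ : W) :
    ∃ ζ0 : W, ζ0 ⤳ ζ ∧ ∀ t : W, t ⤳ ζ0 → t = ζ0 := by
  obtain ⟨ζ0, h1, h2⟩ := exists_maximal_of_mem_irreducibleComponents (irreducibleComponent ζ)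
    (irreducibleComponent_mem_irreducibleComponents ζ)
  refine ⟨ζ0, ?_, h2⟩
  rw [specializes_iff_mem_closure, h1]
  exact mem_irreducibleComponent

end Top

variable {T : Scheme.{u}}

/-- the set of points with nontrivial stalk is the support. -/
theorem suppSet_eq (G : T.Modules) :
    {z : ↥T | Nontrivial ↑(G.presheaf.stalk z)} = CohB1.support G := by
  ext z
  exact not_subsingleton_iff_nontrivial.symm

theorem isClosed_suppSet (G : T.Modules) (hG : Coh.IsCoh G) :
    IsClosed {z : ↥T | Nontrivial ↑(G.presheaf.stalk z)} := by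
  rw [suppSet_eq]
  haveI : G.IsQuasicoherent := hG.1
  exact Groth.Agent.Lib.Helper21.CohSupport.isClosed_support G hG.2

instance quasiSober_suppSet (G : T.Modules) [hG : Fact (Coh.IsCoh G)] :
    QuasiSober ↥{z : ↥T | Nontrivial ↑(G.presheaf.stalk z)} :=
  (isClosed_suppSet G hG.out).isClosedEmbedding_subtypeVal.quasiSober

/-- an associated point specializing to a point of the support which is maximal in the support
equals it. -/
theorem eq_of_ass_of_specializes (G : T.Modules)
    (ζ : ↥{z : ↥T | Nontrivial ↑(G.presheaf.stalk z)})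
    (hmax : ∀ t : ↥{z : ↥T | Nontrivial ↑(G.presheaf.stalk z)}, t ⤳ ζ → t = ζ)
    (y : ↥T) (hy : y ∈ AssSch.Ass G) (hyz : y ⤳ ζ.1) : y = ζ.1 := by
  have hyS : y ∈ {z : ↥T | Nontrivial ↑(G.presheaf.stalk z)} := by
    rw [suppSet_eq]
    exact Groth.Agent.Lib.Helper21.NowhereDense.ass_subset_support G hy
  have h1 : (⟨y, hyS⟩ : ↥{z : ↥T | Nontrivial ↑(G.presheaf.stalk z)}) ⤳ ζ :=
    (subtype_specializes_iff _ _).mpr hyz
  exact congrArg Subtype.val (hmax _ h1)

/-- a point of the support without proper generizations in the support is associated. -/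
theorem mem_ass_of_maximal [IsLocallyNoetherian T] (G : T.Modules) (hG : Coh.IsCoh G)
    (ζ : ↥{z : ↥T | Nontrivial ↑(G.presheaf.stalk z)})
    (hmax : ∀ t : ↥{z : ↥T | Nontrivial ↑(G.presheaf.stalk z)}, t ⤳ ζ → t = ζ) :
    ζ.1 ∈ AssSch.Ass G := by
  haveI : G.IsQuasicoherent := hG.1
  have hz : ζ.1 ∈ CohB1.support G := by
    rw [← suppSet_eq]; exact ζ.2
  obtain ⟨y, hyA, hyz⟩ :=
    Groth.Agent.Lib.Helper21.NowhereDense.exists_ass_specializes G ζ.1 hz
  have := eq_of_ass_of_specializes G ζ hmax y hyA hyz
  rwa [← this]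

/-- the closure of a point of the (closed) support, computed in the support or in the ambient
scheme, has the same dimension. -/
theorem topologicalKrullDim_closure_eq (G : T.Modules) (hG : Coh.IsCoh G)
    (ζ : ↥{z : ↥T | Nontrivial ↑(G.presheaf.stalk z)}) :
    topologicalKrullDim ↥(closure ({ζ.1} : Set ↥T)) =
      topologicalKrullDim ↥(closure ({ζ} : Set ↥{z : ↥T | Nontrivial ↑(G.presheaf.stalk z)})) := by
  have hcl := isClosed_suppSet G hG
  have himg : Subtype.val '' (closure ({ζ} : Set ↥{z : ↥T | Nontrivial ↑(G.presheaf.stalk z)})) =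
      closure ({ζ.1} : Set ↥T) := by
    rw [← hcl.isClosedEmbedding_subtypeVal.closure_image_eq, Set.image_singleton]
  have e := (Topology.IsEmbedding.subtypeVal
    (p := fun z : ↥T => Nontrivial ↑(G.presheaf.stalk z))).homeomorphImage
    (closure ({ζ} : Set ↥{z : ↥T | Nontrivial ↑(G.presheaf.stalk z)}))
  rw [← himg]
  exact (IsHomeomorph.topologicalKrullDim_eq _ e.isHomeomorph).symm

/-- **Q2.** An irreducible component of the support of a coherent module is the closure of a
non-embedded associated point. -/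
theorem exists_ass_of_mem_irreducibleComponents {T : Scheme.{u}} [IsLocallyNoetherian T]
    (G : T.Modules) (hG : Coh.IsCoh G)
    (Z : Set ↥{z : ↥T | Nontrivial ↑(G.presheaf.stalk z)})
    (hZ : Z ∈ irreducibleComponents ↥{z : ↥T | Nontrivial ↑(G.presheaf.stalk z)}) :
    ∃ z : ↥T, z ∈ AssSch.Ass G ∧ (∀ z' ∈ AssSch.Ass G, z ∈ closure {z'} → z' = z) ∧
      topologicalKrullDim ↥(closure ({z} : Set ↥T)) = topologicalKrullDim ↥Z := by
  haveI : Fact (Coh.IsCoh G) := ⟨hG⟩
  obtain ⟨ζ, hζZ, hmax⟩ := Top.exists_maximal_of_mem_irreducibleComponents Z hZ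
  refine ⟨ζ.1, mem_ass_of_maximal G hG ζ hmax, ?_, ?_⟩
  · intro z' hz' hcl
    exact eq_of_ass_of_specializes G ζ hmax z' hz' (specializes_iff_mem_closure.mpr hcl)
  · rw [topologicalKrullDim_closure_eq G hG ζ, hζZ]

end Groth.Agent.Lib.Helper19.CompDimQ2
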