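import Mathlib
import Groth.Prelude.Def_FDesc
import Groth.Prelude.Def_FlatMod2
import Groth.Prelude.Def_CohB1
import Groth.Agent.Lib.Helper19.CompDimQ2

/-!
# Every point of the support lies on a component which is the closure of an associated point

Sub-lemma Q3 of helper67's call for S4965 (msg 3427).
-/

set_option autoImplicit false
set_option linter.style.haveILetI false
universe u
open CategoryTheory AlgebraicGeometry

namespace Groth.Agent.Lib.Helper19.CompDimQ3

open Groth.Agent.Lib.Helper19.CompDimQ2

/-- **Q3.** Every point of the support of a coherent module is a specialization of an associated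
point whose closure has the dimension of an irreducible component of the support. -/
theorem exists_mem_irreducibleComponents_of_nontrivial {T : Scheme.{u}} [IsLocallyNoetherian T]
    (G : T.Modules) (hG : Coh.IsCoh G) (x : ↥T) (hx : Nontrivial ↑(G.presheaf.stalk x)) :
    ∃ z ∈ AssSch.Ass G, x ∈ closure {z} ∧
      ∃ Z ∈ irreducibleComponents ↥{z : ↥T | Nontrivial ↑(G.presheaf.stalk z)},
        topologicalKrullDim ↥Z = topologicalKrullDim ↥(closure ({z} : Set ↥T)) := by
  haveI : Fact (Coh.IsCoh G) := ⟨hG⟩
  obtain ⟨ζ, hζx, hmax⟩ := Top.exists_maximal_specializes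
    (⟨x, hx⟩ : ↥{z : ↥T | Nontrivial ↑(G.presheaf.stalk z)})
  refine ⟨ζ.1, mem_ass_of_maximal G hG ζ hmax, ?_, closure ({ζ} : Set _),
    Top.closure_singleton_mem_irreducibleComponents_of_maximal ζ hmax,
    (topologicalKrullDim_closure_eq G hG ζ).symm⟩
  exact specializes_iff_mem_closure.mp ((subtype_specializes_iff _ _).mp hζx)

end Groth.Agent.Lib.Helper19.CompDimQ3
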