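import Mathlib
import Groth.Prelude.Def_ResDeg
import Groth.Agent.Lib.Helper19.Cyc1941.GeoC
import Groth.Agent.Lib.Helper90.CycBC2

/-!
# MULT-GEO (helper19, for helper90's S1941 / S1858)

The geometric half of the multiplicity identity: the points of `Y ×_X X'` over `(y, x')`
are the maximal ideals of `T = A ⊗[κ(f y)] κ(y)`, `A` the local ring of the fibre `p⁻¹(f y)`
at `x'`, with matching local lengths and residue degrees.
-/

set_option autoImplicit false
set_option linter.style.haveILetI false
universe u
open CategoryTheory CategoryTheory.Limits AlgebraicGeometry TensorProduct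

namespace Groth.Agent.Lib.Helper19.Cyc1941GEO

open Groth.Agent.Lib.Helper67

section D

variable {X X' Y : Scheme.{u}} (f : Y ⟶ X) (p : X' ⟶ X) (y : Y) (x' : X') (h : f y = p x')

/-- the map from maximal ideals of `T` to points over `(y, x')`. -/
noncomputable def e₀ [Module.Finite (X.residueField (f y)) (Y.residueField y)]
    (n : MaximalSpectrum (TT f p y x' h)) :
    {y' : ↥(pullback f p) // pullback.fst f p y' = y ∧ pullback.snd f p y' = x'} :=
  ⟨ιT f p y x' h n.toPrimeSpectrum, fst_ιT f p y x' h _,
    (snd_ιT_eq_iff f p y x' h _).mpr n.isMaximal⟩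

theorem e₀_bijective [Module.Finite (X.residueField (f y)) (Y.residueField y)] :
    Function.Bijective (e₀ f p y x' h) := by
  constructor
  · intro n n' hnn
    have h1 : ιT f p y x' h n.toPrimeSpectrum = ιT f p y x' h n'.toPrimeSpectrum :=
      congrArg Subtype.val hnn
    have h2 := (ιT f p y x' h).isEmbedding.injective h1
    exact MaximalSpectrum.toPrimeSpectrum_injective h2
  · rintro ⟨y', h1, h2⟩
    obtain ⟨n, hn⟩ := exists_ιT_eq f p y x' h y' h1 h2
    have hmax : n.asIdeal.IsMaximal := by
      rw [← snd_ιT_eq_iff f p y x' h n, hn]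
      exact h2
    refine ⟨⟨n.asIdeal, hmax⟩, ?_⟩
    apply Subtype.ext
    exact hn

end D

theorem geo {X X' Y : Scheme.{u}} (f : Y ⟶ X) (p : X' ⟶ X) [LocallyOfFiniteType f] [Flat p]
    [IsLocallyNoetherian X'] (y : Y) (x' : X') (h : f y = p x')
    (hgen : ∀ z, p z = p x' → z ⤳ x' → z = x')
    (hfin : @Module.Finite (X.residueField (f y)) (Y.residueField y) _ _
      (f.residueFieldMap y).hom.toAlgebra.toModule) :
    Groth.Agent.Lib.Helper90.CycBC.GeoStatement f p y x' := by
  haveI : Module.Finite (X.residueField (f y)) (Y.residueField y) := hfin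
  refine ⟨AA f p y x' h, TT f p y x' h, inferInstance, inferInstance, inferInstance,
    inferInstance, inferInstance, inferInstance, finrank_TT f p y x' h, length_AA f p y x' h,
    (Equiv.ofBijective _ (e₀_bijective f p y x' h)).symm, ?_⟩
  intro y'
  obtain ⟨n, rfl⟩ := (Equiv.ofBijective _ (e₀_bijective f p y x' h)).surjective y'
  have key : ∀ m : MaximalSpectrum (TT f p y x' h), m = n →
      (Module.length ((pullback f p).presheaf.stalk (ιT f p y x' h n.toPrimeSpectrum))
        (FiberStalk.Q (pullback.fst f p) (ιT f p y x' h n.toPrimeSpectrum)) =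
        Module.length (Localization.AtPrime m.asIdeal) (Localization.AtPrime m.asIdeal) ∧
      EGA4loc.residueDegree (pullback.snd f p) (ιT f p y x' h n.toPrimeSpectrum) =
        (Module.length (AA f p y x' h) (TT f p y x' h ⧸ m.asIdeal)).toNat) := by
    rintro m rfl
    exact ⟨length_Q_ιT f p y x' h m.toPrimeSpectrum,
      residueDegree_snd_ιT f p y x' h m.toPrimeSpectrum m.isMaximal⟩
  exact key _ (Equiv.symm_apply_apply _ _)

end Groth.Agent.Lib.Helper19.Cyc1941GEO
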