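import Mathlib

set_option autoImplicit false
universe u v w
open CategoryTheory CategoryTheory.Limits Abelian

namespace Groth.Agent.Lib.Helper19.DualFlat

open TensorProduct DualNumber in
/-- A module over the dual numbers `k[ε]` on which `ker ε ⊆ ε M` is flat. -/
theorem flat_of_ker_eps_le {k : Type u} [Field k] {M : Type u} [AddCommGroup M]
    [Module (DualNumber k) M]
    (h : ∀ m : M, (DualNumber.eps : DualNumber k) • m = 0 →
      ∃ m' : M, m = (DualNumber.eps : DualNumber k) • m') :
    Module.Flat (DualNumber k) M := by
  rw [Module.Flat.iff_rTensor_injective']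
  intro I
  rcases DualNumber.ideal_trichotomy I with rfl | rfl | rfl
  · have : Subsingleton ((⊥ : Ideal (DualNumber k)) ⊗[DualNumber k] M) := inferInstance
    exact Function.injective_of_subsingleton _
  · have mem : (DualNumber.eps : DualNumber k) ∈ Ideal.span {(DualNumber.eps : DualNumber k)} :=
      Ideal.subset_span rfl
    have key : ∀ x : (Ideal.span {(DualNumber.eps : DualNumber k)} : Ideal (DualNumber k))
        ⊗[DualNumber k] M, ∃ m : M,
        x = (⟨DualNumber.eps, mem⟩ : Ideal.span {(DualNumber.eps : DualNumber k)}) ⊗ₜ m := by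
      intro x
      induction x using TensorProduct.induction_on with
      | zero => exact ⟨0, by simp⟩
      | tmul a m =>
        obtain ⟨a, ha⟩ := a
        obtain ⟨r, rfl⟩ := Ideal.mem_span_singleton'.mp ha
        refine ⟨r • m, ?_⟩
        rw [TensorProduct.tmul_smul, TensorProduct.smul_tmul']
        rfl
      | add x y hx hy =>
        obtain ⟨m1, rfl⟩ := hx
        obtain ⟨m2, rfl⟩ := hy
        exact ⟨m1 + m2, by rw [TensorProduct.tmul_add]⟩
    rw [injective_iff_map_eq_zero]
    intro x hx
    obtain ⟨m, rfl⟩ := key x
    have h0 : (DualNumber.eps : DualNumber k) • m = 0 := by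
      have := congrArg (TensorProduct.lid (DualNumber k) M) hx
      simpa using this
    obtain ⟨m', rfl⟩ := h m h0
    rw [TensorProduct.tmul_smul, TensorProduct.smul_tmul']
    have h1 : (DualNumber.eps : DualNumber k) •
        (⟨DualNumber.eps, mem⟩ : Ideal.span {(DualNumber.eps : DualNumber k)}) = 0 :=
      Subtype.ext (by simp [DualNumber.eps_mul_eps])
    rw [h1, TensorProduct.zero_tmul]
  · have : ((⊤ : Ideal (DualNumber k)).subtype) =
        (Submodule.topEquiv : (⊤ : Ideal (DualNumber k)) ≃ₗ[DualNumber k] DualNumber k).toLinearMap :=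
      rfl
    rw [this]
    exact (LinearEquiv.rTensor M Submodule.topEquiv).injective

end Groth.Agent.Lib.Helper19.DualFlat
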