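import Groth.Agent.Lib.Helper19.FlatStalkDescent
import Groth.Agent.Lib.Helper19.UnramifiedFiber
import Mathlib.AlgebraicGeometry.Morphisms.Etale

set_option autoImplicit false
universe u
open CategoryTheory CategoryTheory.Limits AlgebraicGeometry

namespace Groth.Agent.Lib.Helper19

/-- Pointwise flat descent: if `w : W ⟶ X` is flat and `w ≫ f` is flat, then `f` is flat at every
point in the image of `w`. -/
lemma flat_stalkMap_of_flat_comp {W X Y : Scheme.{u}} (w : W ⟶ X) (f : X ⟶ Y) [Flat w]
    [Flat (w ≫ f)] (z : W) : (f.stalkMap (w z)).hom.Flat := by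
  have h1 : ((w ≫ f).stalkMap z).hom.Flat := Flat.stalkMap (w ≫ f) z
  rw [Scheme.Hom.stalkMap_comp] at h1
  have h2 : (w.stalkMap z).hom.FaithfullyFlat := by
    algebraize [(w.stalkMap z).hom]
    have : Module.FaithfullyFlat (X.presheaf.stalk (w z)) (W.presheaf.stalk z) :=
      @Module.FaithfullyFlat.of_flat_of_isLocalHom _ _ _ _ _ _ _
        (Flat.stalkMap w z) (w.toLRSHom.prop z)
    assumption
  exact RingHom.Flat.of_comp_of_faithfullyFlat _ _ h2 h1

/-- Flat-local criterion for étaleness: if `X` is covered by the images of opens `U a` of flat base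
changes `X ×_Y Y' a` such that each `U a → Y' a` is an open immersion, then `f` is étale. -/
theorem etale_of_flat_locally_openImmersion {X Y : Scheme.{u}} (f : X ⟶ Y)
    [LocallyOfFinitePresentation f] {ι : Type*} (Y' : ι → Scheme.{u}) (g : ∀ a, Y' a ⟶ Y)
    (U : ∀ a, (pullback f (g a)).Opens) (hg : ∀ a, Flat (g a))
    (hcov : ∀ x : X, ∃ a, x ∈ (pullback.fst f (g a)).base '' (U a : Set ↥(pullback f (g a))))
    (hU : ∀ a, IsOpenImmersion ((U a).ι ≫ pullback.snd f (g a))) : Etale f := by
  have hunr : FormallyUnramified f := by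
    refine formallyUnramified_of_forall_exists_nhd f fun x => ?_
    obtain ⟨a, x', hx', rfl⟩ := hcov x
    have := hU a
    exact exists_nhd_formallyUnramified_of_pullback f (g a) x' ⟨U a, hx', inferInstance⟩
  have hflat : Flat f := by
    refine Flat.of_stalkMap f fun x => ?_
    obtain ⟨a, x', hx', rfl⟩ := hcov x
    have := hU a
    have := hg a
    let w : (U a : Scheme) ⟶ X := (U a).ι ≫ pullback.fst f (g a)
    have hw : Flat w := inferInstance
    have hwf : Flat (w ≫ f) := by
      have : w ≫ f = ((U a).ι ≫ pullback.snd f (g a)) ≫ g a := by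
        simp only [w, Category.assoc, pullback.condition]
      rw [this]
      infer_instance
    exact flat_stalkMap_of_flat_comp w f ⟨x', hx'⟩
  exact Etale.of_formallyUnramified_of_flat f

/-- An étale morphism becomes an open immersion on the diagonal component after base change along
itself. -/
theorem exists_openImmersion_of_etale {X Y : Scheme.{u}} (f : X ⟶ Y) [Etale f] :
    ∃ (U : (pullback f f).Opens),
      (∀ x : X, x ∈ (pullback.fst f f).base '' (U : Set ↥(pullback f f))) ∧
        IsOpenImmersion (U.ι ≫ pullback.snd f f) := by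
  refine ⟨(pullback.diagonal f).opensRange, fun x => ⟨pullback.diagonal f x, ⟨x, rfl⟩, ?_⟩, ?_⟩
  · rw [← Scheme.Hom.comp_apply, pullback.diagonal_fst]; rfl
  · let e := (pullback.diagonal f).isoOpensRange
    have he : e.hom ≫ (pullback.diagonal f).opensRange.ι = pullback.diagonal f :=
      Scheme.Hom.isoOpensRange_hom_ι _
    have : (pullback.diagonal f).opensRange.ι ≫ pullback.snd f f = e.inv := by
      rw [← cancel_epi e.hom, ← Category.assoc, he, pullback.diagonal_snd, e.hom_inv_id]
    rw [this]
    infer_instance

end Groth.Agent.Lib.Helper19
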