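import Mathlib

set_option autoImplicit false
set_option linter.style.haveILetI false
universe u
open TensorProduct

namespace Groth.Agent.Lib.Helper19.FlatFamD1

/-- a module killed by a jointly surjective (on spectra) family of flat base changes is zero. -/
theorem subsingleton_of_forall_subsingleton_tensor {A : Type u} [CommRing A] {T : Type u}
    (B : T → Type u) [∀ t, CommRing (B t)] [∀ t, Algebra A (B t)] [∀ t, Module.Flat A (B t)]
    (hsurj : ∀ p : PrimeSpectrum A, ∃ (t : T) (q : PrimeSpectrum (B t)),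
      PrimeSpectrum.comap (algebraMap A (B t)) q = p)
    (M : Type u) [AddCommGroup M] [Module A M] (h : ∀ t, Subsingleton (B t ⊗[A] M)) :
    Subsingleton M := by
  by_contra hM
  rw [not_subsingleton_iff_nontrivial] at hM
  obtain ⟨x, hx⟩ := exists_ne (0 : M)
  let f : A →ₗ[A] M := LinearMap.toSpanSingleton A M x
  let I : Ideal A := LinearMap.ker f
  have hI : I ≠ ⊤ := by
    intro hI
    have h1 : (1 : A) ∈ I := hI ▸ Submodule.mem_top
    have h2 : f 1 = 0 := h1
    simp [f] at h2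
    exact hx h2
  obtain ⟨p, hp, hIp⟩ := Ideal.exists_le_maximal I hI
  obtain ⟨t, q, hq⟩ := hsurj ⟨p, hp.isPrime⟩
  -- `A ⧸ I ↪ M`
  let ψ : (A ⧸ I) →ₗ[A] M := (LinearMap.range f).subtype ∘ₗ f.quotKerEquivRange.toLinearMap
  have hψ : Function.Injective ψ :=
    (Submodule.injective_subtype _).comp (LinearEquiv.injective _)
  have hinj : Function.Injective (ψ.lTensor (B t)) :=
    Module.Flat.lTensor_preserves_injective_linearMap ψ hψ
  haveI := h t
  have hsub : Subsingleton (B t ⊗[A] (A ⧸ I)) := hinj.subsingleton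
  -- the algebra map `B t ⊗ A/I → B t / q`
  have hIq : ∀ a ∈ I, (Algebra.ofId A (B t ⧸ q.asIdeal)) a = 0 := by
    intro a ha
    have hap : a ∈ p := hIp ha
    have : a ∈ (PrimeSpectrum.comap (algebraMap A (B t)) q).asIdeal := by rw [hq]; exact hap
    change algebraMap A (B t ⧸ q.asIdeal) a = 0
    rw [IsScalarTower.algebraMap_apply A (B t) (B t ⧸ q.asIdeal), Ideal.Quotient.algebraMap_eq,
      Ideal.Quotient.eq_zero_iff_mem]
    exact this
  let g : (A ⧸ I) →ₐ[A] (B t ⧸ q.asIdeal) := Ideal.Quotient.liftₐ I (Algebra.ofId A _) hIq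
  let π : B t →ₐ[A] (B t ⧸ q.asIdeal) := Ideal.Quotient.mkₐ A q.asIdeal
  let Φ : (B t ⊗[A] (A ⧸ I)) →ₐ[A] (B t ⧸ q.asIdeal) := Algebra.TensorProduct.productMap π g
  have h10 : (1 : B t ⊗[A] (A ⧸ I)) = 0 := Subsingleton.elim _ _
  have h11 : (1 : B t ⧸ q.asIdeal) = 0 := by
    rw [← map_one Φ, h10, map_zero]
  haveI : Nontrivial (B t ⧸ q.asIdeal) := Ideal.Quotient.nontrivial_iff.mpr q.2.ne_top
  exact one_ne_zero h11

end Groth.Agent.Lib.Helper19.FlatFamD1
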