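import Groth.Agent.Lib.Helper19.EtalePointwise

set_option autoImplicit false
universe u
open CategoryTheory CategoryTheory.Limits AlgebraicGeometry

namespace Groth.Agent.Lib.Helper19

/-- If `h` is unramified (formally unramified and locally of finite type) and `g ≫ h` is flat,
then `g` is flat: `g` is the composite of its graph (an open immersion) and the projection
`X ×_S Y ⟶ Y` (a base change of `g ≫ h`). -/
lemma flat_of_comp_of_formallyUnramified {X Y S : Scheme.{u}} (g : X ⟶ Y) (h : Y ⟶ S)
    [FormallyUnramified h] [LocallyOfFiniteType h] [Flat (g ≫ h)] : Flat g := by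
  set gr : X ⟶ pullback (g ≫ h) h := pullback.lift (𝟙 X) g (by simp) with hgr
  have e : g = gr ≫ pullback.snd _ _ := (pullback.lift_snd _ _ _).symm
  have hoi : IsOpenImmersion gr :=
    MorphismProperty.of_isPullback (P := @IsOpenImmersion)
      (pullback_lift_diagonal_isPullback g h) inferInstance
  rw [e]
  infer_instance

/-- Pointwise: if `g` is flat at `x` and `g ≫ h` is flat at `x`, then `h` is flat at `g x`. -/
lemma flat_stalkMap_of_flat_stalkMap_comp {X Y S : Scheme.{u}} (g : X ⟶ Y) (h : Y ⟶ S) (x : X)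
    (h1 : (g.stalkMap x).hom.Flat) (h2 : ((g ≫ h).stalkMap x).hom.Flat) :
    (h.stalkMap (g x)).hom.Flat := by
  rw [Scheme.Hom.stalkMap_comp] at h2
  have h3 : (g.stalkMap x).hom.FaithfullyFlat := by
    algebraize [(g.stalkMap x).hom]
    have : Module.FaithfullyFlat (Y.presheaf.stalk (g x)) (X.presheaf.stalk x) :=
      @Module.FaithfullyFlat.of_flat_of_isLocalHom _ _ _ _ _ _ _ h1 (g.toLRSHom.prop x)
    assumption
  exact RingHom.Flat.of_comp_of_faithfullyFlat _ _ h3 h2

/-- EGA IV 17.7-type statement: if `h` is formally unramified near `g x` (and locally of finite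
type) and `g ≫ h` is flat at `x`, then `g` is flat at `x`. -/
theorem flat_stalkMap_of_formallyUnramified_of_flat_comp {X Y S : Scheme.{u}} (h : Y ⟶ S)
    [LocallyOfFiniteType h] (g : X ⟶ Y) (x : X)
    (hu : ∃ V : Y.Opens, g.base x ∈ V ∧ FormallyUnramified (V.ι ≫ h))
    (hf : ((g ≫ h).stalkMap x).hom.Flat) : (g.stalkMap x).hom.Flat := by
  obtain ⟨V, hyV, hV⟩ := hu
  let j := X.fromSpecStalk x
  have hrange : Set.range (j ≫ g) ⊆ Set.range V.ι := by
    rintro _ ⟨z, rfl⟩
    rw [Scheme.Opens.range_ι]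
    have hz : j z ⤳ x := by
      have : j z ∈ Set.range (X.fromSpecStalk x) := ⟨z, rfl⟩
      rwa [Scheme.range_fromSpecStalk] at this
    have hz' : g (j z) ⤳ g x := hz.map g.continuous
    exact hz'.mem_open V.2 hyV
  let g₁ : Spec (X.presheaf.stalk x) ⟶ V.toScheme := IsOpenImmersion.lift V.ι (j ≫ g) hrange
  have hg₁ : g₁ ≫ V.ι = j ≫ g := IsOpenImmersion.lift_fac _ _ _
  have hflat : Flat (g₁ ≫ V.ι ≫ h) := by
    rw [← Category.assoc, hg₁, Category.assoc, ← Scheme.SpecMap_stalkMap_fromSpecStalk]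
    have : Flat (Spec.map ((g ≫ h).stalkMap x)) := Flat.SpecMap_iff.mpr hf
    infer_instance
  have hg₁flat : Flat g₁ := flat_of_comp_of_formallyUnramified g₁ (V.ι ≫ h)
  have hjg : Flat (j ≫ g) := by
    rw [← hg₁]
    infer_instance
  have key := flat_stalkMap_of_flat_comp j g (IsLocalRing.closedPoint (X.presheaf.stalk x))
  have hc : j (IsLocalRing.closedPoint (X.presheaf.stalk x)) = x :=
    Scheme.fromSpecStalk_closedPoint
  rw [hc] at key
  exact key

end Groth.Agent.Lib.Helper19
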