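import Groth.Agent.Lib.Helper19.FormallyEtaleLocal
import Mathlib.RingTheory.Etale.Basic
import Mathlib.AlgebraicGeometry.Morphisms.Etale
import Mathlib.AlgebraicGeometry.Morphisms.FinitePresentation

/-!
# Formally étale morphisms: the lifting property versus the affine-local ring property
-/

set_option autoImplicit false
set_option linter.style.haveILetI false
universe u

open CategoryTheory CategoryTheory.Limits AlgebraicGeometry

namespace Groth.Agent.Lib.Helper19.FEG

/-- `Spec (A ⧸ I) ⟶ Spec A` is surjective when `I ^ 2 = 0`. -/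
lemma specMap_mk_surjective {A : Type u} [CommRing A] (I : Ideal A) (hI : I ^ 2 = ⊥) :
    Function.Surjective (Spec.map (CommRingCat.ofHom (Ideal.Quotient.mk I))) := by
  have hle : I ≤ nilradical A := by
    intro x hx
    refine ⟨2, ?_⟩
    have : x ^ 2 ∈ I ^ 2 := Ideal.pow_mem_pow hx 2
    rwa [hI, Ideal.mem_bot] at this
  exact (PrimeSpectrum.comap_quotientMk_bijective_of_le_nilradical hle).2

/-- The lifting property of a formally étale ring map, on spectra. -/
lemma existsUnique_affine_lift {R B A : Type u} [CommRing R] [CommRing B] [CommRing A]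
    [Algebra R B] [Algebra.FormallyEtale R B] (I : Ideal A) (hI : I ^ 2 = ⊥)
    (α : Spec (CommRingCat.of (A ⧸ I)) ⟶ Spec (CommRingCat.of B))
    (β : Spec (CommRingCat.of A) ⟶ Spec (CommRingCat.of R))
    (h : Spec.map (CommRingCat.ofHom (Ideal.Quotient.mk I)) ≫ β =
      α ≫ Spec.map (CommRingCat.ofHom (algebraMap R B))) :
    ∃! l : Spec (CommRingCat.of A) ⟶ Spec (CommRingCat.of B),
      Spec.map (CommRingCat.ofHom (Ideal.Quotient.mk I)) ≫ l = α ∧
        l ≫ Spec.map (CommRingCat.ofHom (algebraMap R B)) = β := by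
  obtain ⟨α', rfl⟩ := Spec.map_surjective α
  obtain ⟨β', rfl⟩ := Spec.map_surjective β
  rw [← Spec.map_comp, ← Spec.map_comp] at h
  have h' := Spec.map_injective h
  letI : Algebra R A := β'.hom.toAlgebra
  have hcomm : ∀ r : R, α'.hom (algebraMap R B r) = Ideal.Quotient.mk I (β'.hom r) := fun r =>
    (congrArg (fun φ => φ.hom r) h').symm
  let α'' : B →ₐ[R] A ⧸ I := { α'.hom with commutes' := hcomm }
  have hbij := Algebra.FormallyEtale.comp_bijective R B I hI
  obtain ⟨γ, hγ⟩ := hbij.2 α''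
  refine ⟨Spec.map (CommRingCat.ofHom γ.toRingHom), ⟨?_, ?_⟩, ?_⟩
  · rw [← Spec.map_comp]
    congr 1
    ext x
    exact congrArg (fun φ : B →ₐ[R] A ⧸ I => φ x) hγ
  · rw [← Spec.map_comp]
    congr 1
    ext r
    exact γ.commutes r
  · rintro l' ⟨h₁, h₂⟩
    obtain ⟨δ, rfl⟩ := Spec.map_surjective l'
    rw [← Spec.map_comp] at h₁ h₂
    have h₁' := Spec.map_injective h₁
    have h₂' := Spec.map_injective h₂
    let δ' : B →ₐ[R] A := { δ.hom with
      commutes' := fun r => congrArg (fun φ => φ.hom r) h₂' }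
    have hδ : (Ideal.Quotient.mkₐ R I).comp δ' = α'' := by
      ext x
      exact congrArg (fun φ => φ.hom x) h₁'
    have : δ' = γ := hbij.1 (hδ.trans hγ.symm)
    congr 1
    ext x
    exact congrArg (fun φ : B →ₐ[R] A => φ x) this

section local_

variable {X Y T T' : Scheme.{u}} (f : X ⟶ Y) (t : T ⟶ T') [IsClosedImmersion t] (a : T ⟶ X)
  (b : T' ⟶ Y)

/-- The local lifting problem has a unique solution when the relevant ring map is formally
étale. -/
lemma existsUnique_local_of_formallyEtale (w : t ≫ b = a ≫ f)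
    (U : T'.affineOpens) (hsq : t.ker.ideal U ^ 2 = ⊥)
    (UX : X.Opens) (VY : Y.Opens) (hUX : IsAffineOpen UX) (hVY : IsAffineOpen VY)
    (hUV : UX ≤ f ⁻¹ᵁ VY)
    (hfe : letI := (f.appLE VY UX hUV).hom.toAlgebra
      Algebra.FormallyEtale Γ(Y, VY) Γ(X, UX))
    (ha : Set.range (cU t U ≫ a) ⊆ UX) (hb : Set.range (U.2.fromSpec ≫ b) ⊆ VY) :
    ∃! l : Spec Γ(T', U.1) ⟶ X,
      Spec.map (CommRingCat.ofHom (Ideal.Quotient.mk (t.ker.ideal U))) ≫ l = cU t U ≫ a ∧
        l ≫ f = U.2.fromSpec ≫ b := by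
  letI := (f.appLE VY UX hUV).hom.toAlgebra
  haveI : Algebra.FormallyEtale Γ(Y, VY) Γ(X, UX) := hfe
  have hXV : Spec.map (CommRingCat.ofHom (algebraMap Γ(Y, VY) Γ(X, UX))) ≫ hVY.fromSpec =
      hUX.fromSpec ≫ f := hVY.SpecMap_appLE_fromSpec f hUX hUV
  let α : Spec (CommRingCat.of (Γ(T', U.1) ⧸ t.ker.ideal U)) ⟶ Spec Γ(X, UX) :=
    IsOpenImmersion.lift hUX.fromSpec (cU t U ≫ a) (by rw [hUX.range_fromSpec]; exact ha)
  have hα : α ≫ hUX.fromSpec = cU t U ≫ a := IsOpenImmersion.lift_fac _ _ _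
  let β : Spec Γ(T', U.1) ⟶ Spec Γ(Y, VY) :=
    IsOpenImmersion.lift hVY.fromSpec (U.2.fromSpec ≫ b) (by rw [hVY.range_fromSpec]; exact hb)
  have hβ : β ≫ hVY.fromSpec = U.2.fromSpec ≫ b := IsOpenImmersion.lift_fac _ _ _
  have hsquare : Spec.map (CommRingCat.ofHom (Ideal.Quotient.mk (t.ker.ideal U))) ≫ β =
      α ≫ Spec.map (CommRingCat.ofHom (algebraMap Γ(Y, VY) Γ(X, UX))) := by
    rw [← cancel_mono hVY.fromSpec, Category.assoc, Category.assoc, hβ, hXV]
    have e1 : Spec.map (CommRingCat.ofHom (Ideal.Quotient.mk (t.ker.ideal U))) ≫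
        U.2.fromSpec ≫ b = cU t U ≫ a ≫ f := by
      rw [← Category.assoc, ← cU_comp, Category.assoc, w]
    have e2 : α ≫ hUX.fromSpec ≫ f = cU t U ≫ a ≫ f := by
      rw [← Category.assoc, hα, Category.assoc]
    exact e1.trans e2.symm
  obtain ⟨lam, ⟨hl₁, hl₂⟩, hluniq⟩ := existsUnique_affine_lift (R := Γ(Y, VY)) (B := Γ(X, UX))
    (A := Γ(T', U.1)) (t.ker.ideal U) hsq α β hsquare
  refine ⟨lam ≫ hUX.fromSpec, ⟨?_, ?_⟩, ?_⟩
  · rw [← Category.assoc, hl₁, hα]
  · rw [Category.assoc, ← hXV, ← Category.assoc, hl₂, hβ]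
  · rintro l' ⟨h₁, h₂⟩
    have hrange : Set.range l' ⊆ Set.range hUX.fromSpec := by
      rw [hUX.range_fromSpec]
      rintro _ ⟨x, rfl⟩
      obtain ⟨y, rfl⟩ := specMap_mk_surjective (t.ker.ideal U) hsq x
      rw [← Scheme.Hom.comp_apply, h₁]
      exact ha ⟨y, rfl⟩
    let lam' : Spec Γ(T', U.1) ⟶ Spec Γ(X, UX) := IsOpenImmersion.lift hUX.fromSpec l' hrange
    have hlam' : lam' ≫ hUX.fromSpec = l' := IsOpenImmersion.lift_fac _ _ _
    have : lam' = lam := by
      apply hluniq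
      refine ⟨?_, ?_⟩
      · rw [← cancel_mono hUX.fromSpec, Category.assoc, hlam', h₁, hα]
      · rw [← cancel_mono hVY.fromSpec, Category.assoc, hXV, ← Category.assoc, hlam', h₂, hβ]
    rw [← hlam', this]

end local_

end Groth.Agent.Lib.Helper19.FEG
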