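import Groth.Prelude.Def_MoreMor
import Mathlib.AlgebraicGeometry.IdealSheaf.Subscheme
import Mathlib.AlgebraicGeometry.Morphisms.ClosedImmersion

/-!
# Infinitesimal lifting against first order thickenings of arbitrary schemes

A morphism which has the unique lifting property against first order thickenings of affine schemes
has it against all first order thickenings (glue the local lifts, which are compatible by
uniqueness).
-/

set_option autoImplicit false
universe u

open CategoryTheory CategoryTheory.Limits AlgebraicGeometry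

namespace Groth.Agent.Lib.Helper19.FEG

variable {X S T T' : Scheme.{u}}

section local_

variable (t : T ⟶ T') [IsClosedImmersion t]

/-- The chart `Spec (Γ(T', U) / I(U)) ⟶ T` of the closed subscheme `T` of `T'`. -/
noncomputable def cU (U : T'.affineOpens) :
    Spec (CommRingCat.of (Γ(T', U.1) ⧸ t.ker.ideal U)) ⟶ T :=
  t.ker.subschemeCover.f U ≫ inv t.toImage

lemma cover_comp (U : T'.affineOpens) :
    t.ker.subschemeCover.f U ≫ t.ker.subschemeι =
      Spec.map (CommRingCat.ofHom (Ideal.Quotient.mk (t.ker.ideal U))) ≫ U.2.fromSpec :=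
  (t.ker.subschemeCover_map_subschemeι U).trans (t.ker.glueDataObjι_ι U)

lemma cU_comp (U : T'.affineOpens) :
    cU t U ≫ t =
      Spec.map (CommRingCat.ofHom (Ideal.Quotient.mk (t.ker.ideal U))) ≫ U.2.fromSpec := by
  unfold cU
  have h : inv t.toImage ≫ t = t.ker.subschemeι := by
    rw [IsIso.inv_comp_eq]
    exact t.toImage_imageι.symm
  rw [Category.assoc, h]
  exact cover_comp t U

lemma exists_factor (U : T'.affineOpens) {Z : Scheme.{u}} (p : Z ⟶ T)
    (q : Z ⟶ Spec Γ(T', U.1)) (h : p ≫ t = q ≫ U.2.fromSpec) :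
    ∃ r : Z ⟶ Spec (CommRingCat.of (Γ(T', U.1) ⧸ t.ker.ideal U)),
      r ≫ cU t U = p ∧
        r ≫ Spec.map (CommRingCat.ofHom (Ideal.Quotient.mk (t.ker.ideal U))) = q := by
  have hpb := @IsOpenImmersion.isPullback _ _ _ _
    (Spec.map (CommRingCat.ofHom (Ideal.Quotient.mk (t.ker.ideal U))))
    (t.ker.subschemeCover.f U) U.2.fromSpec t.ker.subschemeι
    (t.ker.subschemeCover.map_prop U) inferInstance (cover_comp t U) (by
      rw [U.2.opensRange_fromSpec]
      exact (t.ker.opensRange_subschemeCover_map U).symm)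
  have h' : q ≫ U.2.fromSpec = (p ≫ t.toImage) ≫ t.ker.subschemeι := by
    rw [Category.assoc, ← h]
    exact congrArg (p ≫ ·) t.toImage_imageι.symm
  refine ⟨hpb.lift q (p ≫ t.toImage) h', ?_, hpb.lift_fst _ _ _⟩
  unfold cU
  rw [← Category.assoc, hpb.lift_snd, Category.assoc, IsIso.hom_inv_id, Category.comp_id]

end local_

section main

variable (f : X ⟶ S) (hf : MoreMor.IsFormallyEtaleHom f) (t : T ⟶ T')
  (ht : MoreMor.IsFirstOrderThickening t) (a : T ⟶ X) (b : T' ⟶ S)

include hf ht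

/-- The local lifting problem on an affine open has exactly one solution. -/
lemma existsUnique_local [IsClosedImmersion t] (w : t ≫ b = a ≫ f) (U : T'.affineOpens) :
    ∃! l : Spec Γ(T', U.1) ⟶ X,
      Spec.map (CommRingCat.ofHom (Ideal.Quotient.mk (t.ker.ideal U))) ≫ l = cU t U ≫ a ∧
        l ≫ f = U.2.fromSpec ≫ b := by
  have hsq : t.ker.ideal U ^ 2 = ⊥ := by
    rw [pow_two]
    exact congrArg (fun I : T'.IdealSheafData => I.ideal U) ht.2
  refine hf Γ(T', U.1) (t.ker.ideal U) hsq (cU t U ≫ a) (U.2.fromSpec ≫ b) ?_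
  rw [← Category.assoc, ← cU_comp, Category.assoc, Category.assoc, w]

/-- Uniqueness of lifts on an open subscheme, in "functor of points" form. -/
lemma lift_unique_of_isOpenImmersion [IsClosedImmersion t] (w : t ≫ b = a ≫ f)
    {P : Scheme.{u}} (g : P ⟶ T') [IsOpenImmersion g]
    (l₁ l₂ : P ⟶ X)
    (h₁ : ∀ (Z : Scheme.{u}) (p : Z ⟶ T) (q : Z ⟶ P), p ≫ t = q ≫ g → q ≫ l₁ = p ≫ a)
    (h₁' : l₁ ≫ f = g ≫ b)
    (h₂ : ∀ (Z : Scheme.{u}) (p : Z ⟶ T) (q : Z ⟶ P), p ≫ t = q ≫ g → q ≫ l₂ = p ≫ a)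
    (h₂' : l₂ ≫ f = g ≫ b) : l₁ = l₂ := by
  have hsub : ∀ U : {U : T'.affineOpens // U.1.1 ≤ g.opensRange},
      Set.range U.1.2.fromSpec ⊆ Set.range g := fun U => by
    rw [U.1.2.range_fromSpec]
    exact U.2
  let j : ∀ U : {U : T'.affineOpens // U.1.1 ≤ g.opensRange}, Spec Γ(T', U.1.1) ⟶ P :=
    fun U => IsOpenImmersion.lift g U.1.2.fromSpec (hsub U)
  have hj : ∀ U, j U ≫ g = U.1.2.fromSpec := fun U => IsOpenImmersion.lift_fac _ _ _
  haveI : ∀ U, IsOpenImmersion (j U) := fun U => by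
    haveI : IsOpenImmersion (j U ≫ g) := by rw [hj]; infer_instance
    exact IsOpenImmersion.of_comp (j U) g
  let 𝒰 : P.OpenCover := Scheme.Cover.mkOfCovers
    {U : T'.affineOpens // U.1.1 ≤ g.opensRange} (fun U => Spec Γ(T', U.1.1)) j (by
      intro x
      obtain ⟨W, hW, hxW, hWg⟩ := exists_isAffineOpen_mem_and_subset
        (x := g x) (U := g.opensRange) ⟨x, rfl⟩
      have hx : g x ∈ Set.range (⟨⟨W, hW⟩, hWg⟩ :
          {U : T'.affineOpens // U.1.1 ≤ g.opensRange}).1.2.fromSpec := by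
        rw [hW.range_fromSpec]; exact hxW
      obtain ⟨y, hy⟩ := hx
      refine ⟨⟨⟨W, hW⟩, hWg⟩, y, g.isOpenEmbedding.injective ?_⟩
      rw [← Scheme.Hom.comp_apply, hj]
      exact hy)
  refine Scheme.Cover.hom_ext 𝒰 _ _ fun U => ?_
  change j U ≫ l₁ = j U ≫ l₂
  have key : ∀ l : P ⟶ X,
      (∀ (Z : Scheme.{u}) (p : Z ⟶ T) (q : Z ⟶ P), p ≫ t = q ≫ g → q ≫ l = p ≫ a) →
      l ≫ f = g ≫ b →
      Spec.map (CommRingCat.ofHom (Ideal.Quotient.mk (t.ker.ideal U.1))) ≫ (j U ≫ l) =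
        cU t U.1 ≫ a ∧ (j U ≫ l) ≫ f = U.1.2.fromSpec ≫ b := by
    intro l hl hl'
    refine ⟨?_, ?_⟩
    · rw [← Category.assoc]
      refine hl _ (cU t U.1) _ ?_
      rw [Category.assoc, hj, cU_comp]
    · rw [Category.assoc, hl', ← Category.assoc, hj]
  exact (existsUnique_local f hf t ht a b w U.1).unique (key l₁ h₁ h₁') (key l₂ h₂ h₂')

theorem existsUnique_lift (w : t ≫ b = a ≫ f) :
    ∃! l : T' ⟶ X, t ≫ l = a ∧ l ≫ f = b := by
  haveI : IsClosedImmersion t := ht.1.1
  choose lU hlU hlU_unique using existsUnique_local f hf t ht a b w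
  -- the key property of the local lifts
  have KP : ∀ (U : T'.affineOpens) (Z : Scheme.{u}) (p : Z ⟶ T) (q : Z ⟶ Spec Γ(T', U.1)),
      p ≫ t = q ≫ U.2.fromSpec → q ≫ lU U = p ≫ a := by
    intro U Z p q h
    obtain ⟨r, hr₁, hr₂⟩ := exists_factor t U p q h
    rw [← hr₂, Category.assoc, (hlU U).1, ← Category.assoc, hr₁]
  have hcompat : ∀ U V : T'.affineOpens,
      pullback.fst U.2.fromSpec V.2.fromSpec ≫ lU U =
        pullback.snd U.2.fromSpec V.2.fromSpec ≫ lU V := by
    intro U V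
    have hc : pullback.fst U.2.fromSpec V.2.fromSpec ≫ U.2.fromSpec =
        pullback.snd U.2.fromSpec V.2.fromSpec ≫ V.2.fromSpec := pullback.condition
    refine lift_unique_of_isOpenImmersion f hf t ht a b w
      (pullback.fst U.2.fromSpec V.2.fromSpec ≫ U.2.fromSpec) _ _ ?_ ?_ ?_ ?_
    · intro Z p q h
      rw [← Category.assoc]
      exact KP U Z p _ (h.trans (Category.assoc _ _ _).symm)
    · rw [Category.assoc, (hlU U).2, Category.assoc]
    · intro Z p q h
      rw [← Category.assoc]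
      refine KP V Z p _ (h.trans ?_)
      rw [hc, Category.assoc]
    · rw [Category.assoc, (hlU V).2, ← Category.assoc, ← hc, Category.assoc]
  let 𝒰 : T'.OpenCover := Scheme.Cover.mkOfCovers T'.affineOpens (fun U => Spec Γ(T', U.1))
    (fun U => U.2.fromSpec) (by
      intro x
      obtain ⟨W, hW, hxW, -⟩ := exists_isAffineOpen_mem_and_subset (x := x) (U := ⊤) trivial
      have hx : x ∈ Set.range hW.fromSpec := by rw [hW.range_fromSpec]; exact hxW
      obtain ⟨y, hy⟩ := hx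
      exact ⟨⟨W, hW⟩, y, hy⟩)
  let l : T' ⟶ X := 𝒰.glueMorphisms lU hcompat
  have hl : ∀ U : T'.affineOpens, U.2.fromSpec ≫ l = lU U := fun U => 𝒰.ι_glueMorphisms lU hcompat U
  have hl₁ : t ≫ l = a := by
    refine Scheme.Cover.hom_ext (𝒰.pullback₁ t) _ _ fun U => ?_
    change pullback.fst t U.2.fromSpec ≫ t ≫ l = pullback.fst t U.2.fromSpec ≫ a
    rw [← Category.assoc, pullback.condition, Category.assoc, hl]
    exact KP U _ _ _ pullback.condition
  have hl₂ : l ≫ f = b := by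
    refine Scheme.Cover.hom_ext 𝒰 _ _ fun U => ?_
    change U.2.fromSpec ≫ l ≫ f = U.2.fromSpec ≫ b
    rw [← Category.assoc, hl, (hlU U).2]
  refine ⟨l, ⟨hl₁, hl₂⟩, ?_⟩
  rintro l' ⟨hl'₁, hl'₂⟩
  refine lift_unique_of_isOpenImmersion f hf t ht a b w (𝟙 T') l' l ?_ ?_ ?_ ?_
  · intro Z p q h
    rw [Category.comp_id] at h
    rw [← h, Category.assoc, hl'₁]
  · rw [hl'₂, Category.id_comp]
  · intro Z p q h
    rw [Category.comp_id] at h
    rw [← h, Category.assoc, hl₁]
  · rw [hl₂, Category.id_comp]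

end main

end Groth.Agent.Lib.Helper19.FEG
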