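import Groth.Agent.Lib.Helper19.FormallyEtaleAffine

/-!
# Formally étale morphisms of schemes

The lifting property against first order thickenings of affine schemes is equivalent to the
affine-local ring maps being formally étale; étale = locally of finite presentation + formally étale.
-/

set_option autoImplicit false
set_option linter.style.haveILetI false
universe u

open CategoryTheory CategoryTheory.Limits AlgebraicGeometry

namespace Groth.Agent.Lib.Helper19.FEG

variable {X Y : Scheme.{u}}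

/-- All ring maps between affine opens are formally étale. -/
def RFE (f : X ⟶ Y) : Prop :=
  ∀ (U : X.Opens) (V : Y.Opens) (_ : IsAffineOpen U) (_ : IsAffineOpen V) (hUV : U ≤ f ⁻¹ᵁ V),
    letI := (f.appLE V U hUV).hom.toAlgebra
    Algebra.FormallyEtale Γ(Y, V) Γ(X, U)

section A

variable {T T' : Scheme.{u}}

/-- Unique lifting against square-zero thickenings of arbitrary schemes, from the ring-level
property. -/
theorem existsUnique_lift_of_RFE (f : X ⟶ Y) (hR : RFE f) (t : T ⟶ T') [IsClosedImmersion t]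
    (hsurj : Function.Surjective t) (hker : t.ker * t.ker = ⊥) (a : T ⟶ X) (b : T' ⟶ Y)
    (w : t ≫ b = a ≫ f) : ∃! l : T' ⟶ X, t ≫ l = a ∧ l ≫ f = b := by
  let small : T'.affineOpens → Prop := fun U =>
    ∃ (UX : X.Opens) (VY : Y.Opens), IsAffineOpen UX ∧ IsAffineOpen VY ∧ UX ≤ f ⁻¹ᵁ VY ∧
      (∀ z : T, t z ∈ U.1 → a z ∈ UX) ∧ (∀ x ∈ U.1, b x ∈ VY)
  have hinj : Function.Injective t := t.isClosedEmbedding.injective
  have hopen : IsOpenMap t := by
    have hh : IsHomeomorph t :=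
      isHomeomorph_iff_isEmbedding_surjective.mpr ⟨t.isClosedEmbedding.isEmbedding, hsurj⟩
    exact hh.isOpenMap
  refine existsUnique_lift_of_local f t a b small ?_ ?_ ?_
  · intro x
    obtain ⟨x₀, rfl⟩ := hsurj x
    obtain ⟨VY, hVY, hxV, -⟩ := exists_isAffineOpen_mem_and_subset (x := b (t x₀)) (U := ⊤) trivial
    have hax : a x₀ ∈ f ⁻¹ᵁ VY := by
      change f (a x₀) ∈ VY
      rw [← Scheme.Hom.comp_apply, ← w, Scheme.Hom.comp_apply]
      exact hxV
    obtain ⟨UX, hUX, hxU, hUV⟩ := exists_isAffineOpen_mem_and_subset hax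
    let W₀ : T'.Opens := ⟨t '' (a ⁻¹ᵁ UX : Set T), hopen _ (a ⁻¹ᵁ UX).2⟩
    have hxW : t x₀ ∈ b ⁻¹ᵁ VY ⊓ W₀ := ⟨hxV, ⟨x₀, hxU, rfl⟩⟩
    obtain ⟨U, hU, hxU', hUW⟩ := exists_isAffineOpen_mem_and_subset hxW
    refine ⟨⟨U, hU⟩, ⟨UX, VY, hUX, hVY, hUV, ?_, ?_⟩, hxU'⟩
    · intro z hz
      obtain ⟨z', hz', hzz'⟩ := (hUW hz).2
      rw [← hinj hzz']
      exact hz'
    · intro x hx
      exact (hUW hx).1
  · rintro U V ⟨UX, VY, hUX, hVY, hUV, h₁, h₂⟩ hVU
    exact ⟨UX, VY, hUX, hVY, hUV, fun z hz => h₁ z (hVU hz), fun x hx => h₂ x (hVU hx)⟩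
  · rintro U ⟨UX, VY, hUX, hVY, hUV, h₁, h₂⟩
    have hsq : t.ker.ideal U ^ 2 = ⊥ := by
      rw [pow_two]
      exact congrArg (fun I : T'.IdealSheafData => I.ideal U) hker
    refine existsUnique_local_of_formallyEtale f t a b w U hsq UX VY hUX hVY hUV
      (hR UX VY hUX hVY hUV) ?_ ?_
    · rintro _ ⟨y, rfl⟩
      rw [Scheme.Hom.comp_apply]
      refine h₁ _ ?_
      rw [← Scheme.Hom.comp_apply, cU_comp, Scheme.Hom.comp_apply]
      have : U.2.fromSpec ((Spec.map (CommRingCat.ofHom (Ideal.Quotient.mk (t.ker.ideal U)))) y) ∈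
          Set.range U.2.fromSpec := ⟨_, rfl⟩
      rw [U.2.range_fromSpec] at this
      exact this
    · rintro _ ⟨y, rfl⟩
      rw [Scheme.Hom.comp_apply]
      refine h₂ _ ?_
      have : U.2.fromSpec y ∈ Set.range U.2.fromSpec := ⟨_, rfl⟩
      rw [U.2.range_fromSpec] at this
      exact this

end A

/-- `Spec (A ⧸ I) ⟶ Spec A` has square-zero ideal sheaf when `I ^ 2 = 0`. -/
lemma ker_specMap_mk_mul {A : Type u} [CommRing A] (I : Ideal A) (hI : I ^ 2 = ⊥) :
    (Spec.map (CommRingCat.ofHom (Ideal.Quotient.mk I))).ker *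
      (Spec.map (CommRingCat.ofHom (Ideal.Quotient.mk I))).ker = ⊥ := by
  apply Scheme.IdealSheafData.ext_of_isAffine
  change (Spec.map (CommRingCat.ofHom (Ideal.Quotient.mk I))).ker.ideal ⟨⊤, isAffineOpen_top _⟩ *
    (Spec.map (CommRingCat.ofHom (Ideal.Quotient.mk I))).ker.ideal ⟨⊤, isAffineOpen_top _⟩ = ⊥
  rw [eq_bot_iff, Ideal.mul_le]
  intro x hx y hy
  rw [Scheme.Hom.ker_apply, RingHom.mem_ker] at hx hy
  rw [Ideal.mem_bot]
  have hnat := Scheme.ΓSpecIso_naturality (CommRingCat.ofHom (Ideal.Quotient.mk I))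
  have hmem : ∀ z : Γ(Spec (CommRingCat.of A), ⊤),
      (Spec.map (CommRingCat.ofHom (Ideal.Quotient.mk I))).appTop z = 0 →
        (Scheme.ΓSpecIso (CommRingCat.of A)).hom z ∈ I := by
    intro z hz
    have h1 := congrArg (fun φ => φ.hom z) hnat
    simp only [CommRingCat.hom_comp, RingHom.comp_apply] at h1
    rw [hz, map_zero] at h1
    exact Ideal.Quotient.eq_zero_iff_mem.mp h1.symm
  have hxy : (Scheme.ΓSpecIso (CommRingCat.of A)).hom (x * y) ∈ I ^ 2 := by
    rw [map_mul, pow_two]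
    exact Ideal.mul_mem_mul (hmem x hx) (hmem y hy)
  rw [hI, Ideal.mem_bot] at hxy
  have hinj : Function.Injective (Scheme.ΓSpecIso (CommRingCat.of A)).hom :=
    (ConcreteCategory.bijective_of_isIso (Scheme.ΓSpecIso (CommRingCat.of A)).hom).1
  exact hinj (hxy.trans (map_zero _).symm)

theorem isFormallyEtaleHom_of_RFE (f : X ⟶ Y) (hR : RFE f) : MoreMor.IsFormallyEtaleHom f := by
  intro A _ I hI a b w
  haveI : IsClosedImmersion (Spec.map (CommRingCat.ofHom (Ideal.Quotient.mk I))) :=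
    IsClosedImmersion.spec_of_surjective _ Ideal.Quotient.mk_surjective
  exact existsUnique_lift_of_RFE f hR _ (specMap_mk_surjective I hI) (ker_specMap_mk_mul I hI) a b w

theorem RFE_of_isFormallyEtaleHom (f : X ⟶ Y) (hf : MoreMor.IsFormallyEtaleHom f) : RFE f := by
  intro U V hU hV hUV
  letI := (f.appLE V U hUV).hom.toAlgebra
  rw [Algebra.FormallyEtale.iff_comp_bijective]
  intro C _ _ J hJ
  have hXV : Spec.map (CommRingCat.ofHom (algebraMap Γ(Y, V) Γ(X, U))) ≫ hV.fromSpec =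
      hU.fromSpec ≫ f := hV.SpecMap_appLE_fromSpec f hU hUV
  have key : ∀ g : Γ(X, U) →ₐ[Γ(Y, V)] C ⧸ J,
      ∃! h : Γ(X, U) →ₐ[Γ(Y, V)] C, (Ideal.Quotient.mkₐ Γ(Y, V) J).comp h = g := by
    intro g
    let a : Spec (CommRingCat.of (C ⧸ J)) ⟶ X :=
      Spec.map (CommRingCat.ofHom g.toRingHom) ≫ hU.fromSpec
    let b : Spec (CommRingCat.of C) ⟶ Y :=
      Spec.map (CommRingCat.ofHom (algebraMap Γ(Y, V) C)) ≫ hV.fromSpec
    have hsq : Spec.map (CommRingCat.ofHom (Ideal.Quotient.mk J)) ≫ b = a ≫ f := by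
      change Spec.map (CommRingCat.ofHom (Ideal.Quotient.mk J)) ≫
        Spec.map (CommRingCat.ofHom (algebraMap Γ(Y, V) C)) ≫ hV.fromSpec =
        (Spec.map (CommRingCat.ofHom g.toRingHom) ≫ hU.fromSpec) ≫ f
      rw [Category.assoc, ← hXV, ← Category.assoc, ← Category.assoc, ← Spec.map_comp,
        ← Spec.map_comp]
      congr 2
      ext r
      exact (g.commutes r).symm
    obtain ⟨l, ⟨hl₁, hl₂⟩, hluniq⟩ := hf C J hJ a b hsq
    have hrange : Set.range l ⊆ Set.range hU.fromSpec := by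
      rintro _ ⟨x, rfl⟩
      obtain ⟨y, rfl⟩ := specMap_mk_surjective J hJ x
      rw [← Scheme.Hom.comp_apply, hl₁]
      exact ⟨_, (Scheme.Hom.comp_apply _ _ _).symm⟩
    let lam : Spec (CommRingCat.of C) ⟶ Spec Γ(X, U) :=
      IsOpenImmersion.lift hU.fromSpec l hrange
    have hlam : lam ≫ hU.fromSpec = l := IsOpenImmersion.lift_fac _ _ _
    obtain ⟨h', hh'⟩ := Spec.map_surjective lam
    have hcomm : CommRingCat.ofHom (algebraMap Γ(Y, V) Γ(X, U)) ≫ h' =
        CommRingCat.ofHom (algebraMap Γ(Y, V) C) := by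
      apply Spec.map_injective
      rw [Spec.map_comp, ← cancel_mono hV.fromSpec, Category.assoc, hXV, ← Category.assoc, hh',
        hlam, hl₂]
    have hred : h' ≫ CommRingCat.ofHom (Ideal.Quotient.mk J) =
        CommRingCat.ofHom g.toRingHom := by
      apply Spec.map_injective
      rw [Spec.map_comp, ← cancel_mono hU.fromSpec, Category.assoc, hh', hlam, hl₁]
    let h : Γ(X, U) →ₐ[Γ(Y, V)] C := { h'.hom with
      commutes' := fun r => congrArg (fun φ => φ.hom r) hcomm }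
    refine ⟨h, ?_, ?_⟩
    · ext x
      exact congrArg (fun φ => φ.hom x) hred
    · intro h₂ hh₂
      have e1 : Spec.map (CommRingCat.ofHom (Ideal.Quotient.mk J)) ≫
          (Spec.map (CommRingCat.ofHom h₂.toRingHom) ≫ hU.fromSpec) = a := by
        change _ = Spec.map (CommRingCat.ofHom g.toRingHom) ≫ hU.fromSpec
        rw [← Category.assoc, ← Spec.map_comp]
        congr 2
        ext x
        exact congrArg (fun φ : Γ(X, U) →ₐ[Γ(Y, V)] C ⧸ J => φ x) hh₂
      have e2 : (Spec.map (CommRingCat.ofHom h₂.toRingHom) ≫ hU.fromSpec) ≫ f = b := by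
        change _ = Spec.map (CommRingCat.ofHom (algebraMap Γ(Y, V) C)) ≫ hV.fromSpec
        rw [Category.assoc, ← hXV, ← Category.assoc, ← Spec.map_comp]
        congr 2
        ext r
        exact h₂.commutes r
      have e3 := hluniq _ ⟨e1, e2⟩
      rw [← hlam, ← hh', cancel_mono] at e3
      have e4 := Spec.map_injective e3
      ext x
      exact congrArg (fun φ => φ.hom x) e4
  refine ⟨fun h₁ h₂ e => ?_, fun g => (key g).exists⟩
  exact (key _).unique rfl e.symm

theorem isFormallyEtaleHom_iff (f : X ⟶ Y) :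
    MoreMor.IsFormallyEtaleHom f ↔ ∀ (U : X.Opens) (V : Y.Opens) (hU : IsAffineOpen U)
      (hV : IsAffineOpen V) (hUV : U ≤ f ⁻¹ᵁ V),
      letI := (f.appLE V U hUV).hom.toAlgebra
      Algebra.FormallyEtale Γ(Y, V) Γ(X, U) :=
  ⟨RFE_of_isFormallyEtaleHom f, isFormallyEtaleHom_of_RFE f⟩

theorem etale_iff (f : X ⟶ Y) :
    Etale f ↔ LocallyOfFinitePresentation f ∧ MoreMor.IsFormallyEtaleHom f := by
  rw [isFormallyEtaleHom_iff, HasRingHomProperty.iff_appLE (P := @Etale),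
    HasRingHomProperty.iff_appLE (P := @LocallyOfFinitePresentation)]
  constructor
  · intro h
    refine ⟨fun U V e => ?_, fun U V hU hV hUV => ?_⟩
    · letI := (f.appLE U.1 V.1 e).hom.toAlgebra
      have : Algebra.Etale Γ(Y, U.1) Γ(X, V.1) := h U V e
      exact this.finitePresentation
    · letI := (f.appLE V U hUV).hom.toAlgebra
      have : Algebra.Etale Γ(Y, V) Γ(X, U) := h ⟨V, hV⟩ ⟨U, hU⟩ hUV
      exact this.formallyEtale
  · rintro ⟨h₁, h₂⟩ U V e
    letI := (f.appLE U.1 V.1 e).hom.toAlgebra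
    have a₁ : Algebra.FinitePresentation Γ(Y, U.1) Γ(X, V.1) := h₁ U V e
    have a₂ : Algebra.FormallyEtale Γ(Y, U.1) Γ(X, V.1) := h₂ V.1 U.1 V.2 U.2 e
    exact (⟨a₂, a₁⟩ : Algebra.Etale Γ(Y, U.1) Γ(X, V.1))

end Groth.Agent.Lib.Helper19.FEG
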