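import Groth.Agent.Lib.Helper19.FormallyEtaleGlue

/-!
# Gluing unique local lifts along a closed immersion

Generalisation of `FormallyEtaleGlue`: if the lifting problem against a closed immersion
`t : T ⟶ T'` has exactly one solution on every member of a basis of "small" affine opens of `T'`
(stable under shrinking), then it has exactly one global solution.
-/

set_option autoImplicit false
universe u

open CategoryTheory CategoryTheory.Limits AlgebraicGeometry

namespace Groth.Agent.Lib.Helper19.FEG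

variable {X S T T' : Scheme.{u}}

section

variable (f : X ⟶ S) (t : T ⟶ T') [IsClosedImmersion t] (a : T ⟶ X) (b : T' ⟶ S)
  (small : T'.affineOpens → Prop)
  (hcov : ∀ x : T', ∃ U : T'.affineOpens, small U ∧ x ∈ U.1)
  (hmono : ∀ U V : T'.affineOpens, small U → V.1 ≤ U.1 → small V)
  (hloc : ∀ U : T'.affineOpens, small U → ∃! l : Spec Γ(T', U.1) ⟶ X,
    Spec.map (CommRingCat.ofHom (Ideal.Quotient.mk (t.ker.ideal U))) ≫ l = cU t U ≫ a ∧
      l ≫ f = U.2.fromSpec ≫ b)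

include hcov hmono hloc

lemma lift_unique_of_isOpenImmersion'
    {P : Scheme.{u}} (g : P ⟶ T') [IsOpenImmersion g]
    (l₁ l₂ : P ⟶ X)
    (h₁ : ∀ (Z : Scheme.{u}) (p : Z ⟶ T) (q : Z ⟶ P), p ≫ t = q ≫ g → q ≫ l₁ = p ≫ a)
    (h₁' : l₁ ≫ f = g ≫ b)
    (h₂ : ∀ (Z : Scheme.{u}) (p : Z ⟶ T) (q : Z ⟶ P), p ≫ t = q ≫ g → q ≫ l₂ = p ≫ a)
    (h₂' : l₂ ≫ f = g ≫ b) : l₁ = l₂ := by
  have hsub : ∀ U : {U : T'.affineOpens // small U ∧ U.1 ≤ g.opensRange},
      Set.range U.1.2.fromSpec ⊆ Set.range g := fun U => by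
    rw [U.1.2.range_fromSpec]
    exact U.2.2
  let j : ∀ U : {U : T'.affineOpens // small U ∧ U.1 ≤ g.opensRange}, Spec Γ(T', U.1.1) ⟶ P :=
    fun U => IsOpenImmersion.lift g U.1.2.fromSpec (hsub U)
  have hj : ∀ U, j U ≫ g = U.1.2.fromSpec := fun U => IsOpenImmersion.lift_fac _ _ _
  have : ∀ U, IsOpenImmersion (j U) := fun U => by
    have : IsOpenImmersion (j U ≫ g) := by rw [hj]; infer_instance
    exact IsOpenImmersion.of_comp (j U) g
  let 𝒰 : P.OpenCover := Scheme.Cover.mkOfCovers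
    {U : T'.affineOpens // small U ∧ U.1 ≤ g.opensRange} (fun U => Spec Γ(T', U.1.1)) j (by
      intro x
      obtain ⟨U₀, hU₀, hxU₀⟩ := hcov (g x)
      obtain ⟨W, hW, hxW, hWg⟩ := exists_isAffineOpen_mem_and_subset
        (x := g x) (U := U₀.1 ⊓ g.opensRange) ⟨hxU₀, ⟨x, rfl⟩⟩
      have hWs : small ⟨W, hW⟩ := hmono U₀ ⟨W, hW⟩ hU₀ (fun y hy => (hWg hy).1)
      have hWr : W ≤ g.opensRange := fun y hy => (hWg hy).2
      have hx : g x ∈ Set.range hW.fromSpec := by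
        rw [hW.range_fromSpec]; exact hxW
      obtain ⟨y, hy⟩ := hx
      refine ⟨⟨⟨W, hW⟩, hWs, hWr⟩, y, g.isOpenEmbedding.injective ?_⟩
      rw [← Scheme.Hom.comp_apply, hj]
      exact hy)
  refine Scheme.Cover.hom_ext 𝒰 _ _ fun U => ?_
  change j U ≫ l₁ = j U ≫ l₂
  have key : ∀ l : P ⟶ X,
      (∀ (Z : Scheme.{u}) (p : Z ⟶ T) (q : Z ⟶ P), p ≫ t = q ≫ g → q ≫ l = p ≫ a) →
      l ≫ f = g ≫ b →
      Spec.map (CommRingCat.ofHom (Ideal.Quotient.mk (t.ker.ideal U.1))) ≫ (j U ≫ l) =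
        cU t U.1 ≫ a ∧ (j U ≫ l) ≫ f = U.1.2.fromSpec ≫ b := by
    intro l hl hl'
    refine ⟨?_, ?_⟩
    · rw [← Category.assoc]
      refine hl _ (cU t U.1) _ ?_
      rw [Category.assoc, hj, cU_comp]
    · rw [Category.assoc, hl', ← Category.assoc, hj]
  exact (hloc U.1 U.2.1).unique (key l₁ h₁ h₁') (key l₂ h₂ h₂')

theorem existsUnique_lift_of_local :
    ∃! l : T' ⟶ X, t ≫ l = a ∧ l ≫ f = b := by
  have hloc' : ∀ U : {U : T'.affineOpens // small U}, ∃! l : Spec Γ(T', U.1.1) ⟶ X,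
      Spec.map (CommRingCat.ofHom (Ideal.Quotient.mk (t.ker.ideal U.1))) ≫ l = cU t U.1 ≫ a ∧
        l ≫ f = U.1.2.fromSpec ≫ b := fun U => hloc U.1 U.2
  choose lU hlU hlU_unique using hloc'
  have KP : ∀ (U : {U : T'.affineOpens // small U}) (Z : Scheme.{u}) (p : Z ⟶ T)
      (q : Z ⟶ Spec Γ(T', U.1.1)), p ≫ t = q ≫ U.1.2.fromSpec → q ≫ lU U = p ≫ a := by
    intro U Z p q h
    obtain ⟨r, hr₁, hr₂⟩ := exists_factor t U.1 p q h
    rw [← hr₂, Category.assoc, (hlU U).1, ← Category.assoc, hr₁]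
  have hcompat : ∀ U V : {U : T'.affineOpens // small U},
      pullback.fst U.1.2.fromSpec V.1.2.fromSpec ≫ lU U =
        pullback.snd U.1.2.fromSpec V.1.2.fromSpec ≫ lU V := by
    intro U V
    have hc : pullback.fst U.1.2.fromSpec V.1.2.fromSpec ≫ U.1.2.fromSpec =
        pullback.snd U.1.2.fromSpec V.1.2.fromSpec ≫ V.1.2.fromSpec := pullback.condition
    refine lift_unique_of_isOpenImmersion' f t a b small hcov hmono hloc
      (pullback.fst U.1.2.fromSpec V.1.2.fromSpec ≫ U.1.2.fromSpec) _ _ ?_ ?_ ?_ ?_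
    · intro Z p q h
      rw [← Category.assoc]
      exact KP U Z p _ (h.trans (Category.assoc _ _ _).symm)
    · rw [Category.assoc, (hlU U).2, Category.assoc]
    · intro Z p q h
      rw [← Category.assoc]
      refine KP V Z p _ (h.trans ?_)
      rw [hc, Category.assoc]
    · rw [Category.assoc, (hlU V).2, ← Category.assoc, ← hc, Category.assoc]
  let 𝒰 : T'.OpenCover := Scheme.Cover.mkOfCovers {U : T'.affineOpens // small U}
    (fun U => Spec Γ(T', U.1.1)) (fun U => U.1.2.fromSpec) (by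
      intro x
      obtain ⟨U, hU, hxU⟩ := hcov x
      have hx : x ∈ Set.range U.2.fromSpec := by rw [U.2.range_fromSpec]; exact hxU
      obtain ⟨y, hy⟩ := hx
      exact ⟨⟨U, hU⟩, y, hy⟩)
  let l : T' ⟶ X := 𝒰.glueMorphisms lU hcompat
  have hl : ∀ U : {U : T'.affineOpens // small U}, U.1.2.fromSpec ≫ l = lU U :=
    fun U => 𝒰.ι_glueMorphisms lU hcompat U
  have hl₁ : t ≫ l = a := by
    refine Scheme.Cover.hom_ext (𝒰.pullback₁ t) _ _ fun U => ?_
    change pullback.fst t U.1.2.fromSpec ≫ t ≫ l = pullback.fst t U.1.2.fromSpec ≫ a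
    rw [← Category.assoc, pullback.condition, Category.assoc, hl]
    exact KP U _ _ _ pullback.condition
  have hl₂ : l ≫ f = b := by
    refine Scheme.Cover.hom_ext 𝒰 _ _ fun U => ?_
    change U.1.2.fromSpec ≫ l ≫ f = U.1.2.fromSpec ≫ b
    rw [← Category.assoc, hl, (hlU U).2]
  refine ⟨l, ⟨hl₁, hl₂⟩, ?_⟩
  rintro l' ⟨hl'₁, hl'₂⟩
  refine lift_unique_of_isOpenImmersion' f t a b small hcov hmono hloc (𝟙 T') l' l ?_ ?_ ?_ ?_
  · intro Z p q h
    rw [Category.comp_id] at h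
    rw [← h, Category.assoc, hl'₁]
  · rw [hl'₂, Category.id_comp]
  · intro Z p q h
    rw [Category.comp_id] at h
    rw [← h, Category.assoc, hl₁]
  · rw [hl₂, Category.id_comp]

end

end Groth.Agent.Lib.Helper19.FEG
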