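import Groth.Agent.Lib.Helper74.FtSub
import Groth.Agent.Lib.Helper21.MLImage
import Groth.Agent.Lib.Helper21.CohBiprod
import Groth.Agent.Lib.Helper21.Devissage
import Groth.Agent.Lib.Helper2.DCohFP
import Groth.Agent.Lib.Helper2.QCohLim

/-!
# The preorder of quasi-coherent finite-type subobjects is directed and nonempty (helper19)

Piece D1 of helper74's call for S12689 (msg 3844).
-/

set_option autoImplicit false
set_option linter.style.haveILetI false
universe u

open CategoryTheory CategoryTheory.Limits AlgebraicGeometry TopologicalSpace Opposite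
open Groth.Agent.Lib.Helper74.FtSub
open scoped ZeroObject

noncomputable section

namespace Groth.Agent.Lib.Helper19.FtSubD1

theorem nonempty_ftSub {Y : Scheme.{u}} (F : Y.Modules) : Nonempty (FtSub F) := by
  have hz : IsZero (0 : Y.Modules) := isZero_zero _
  have hc := Groth.Agent.Lib.Helper21.Devissage.isCoh_of_isZero hz
  exact ⟨⟨0, 0, ⟨fun g h _ => hz.eq_of_tgt g h⟩, hc.1, hc.2⟩⟩

theorem isDirected_ftSub {Y : Scheme.{u}} (F : Y.Modules) [F.IsQuasicoherent] :
    IsDirected (FtSub F) (· ≤ ·) := by
  constructor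
  intro a b
  haveI := a.qcoh
  haveI := b.qcoh
  haveI : (a.E ⊞ b.E).IsQuasicoherent :=
    Groth.Agent.Lib.Helper2.KerSec.isQuasicoherent_biprod a.E b.E
  let g : a.E ⊞ b.E ⟶ F := biprod.desc a.ι b.ι
  let c : FtSub F :=
    ⟨((imageSubobject g : Subobject F) : Y.Modules), (imageSubobject g).arrow, inferInstance,
      Groth.Agent.Lib.Helper21.MLImage.isQuasicoherent_imageSubobject g,
      Groth.Agent.Lib.Helper2.DCohFP.isFiniteType_of_epi (factorThruImageSubobject g)
        (Groth.Agent.Lib.Helper21.CohBiprod.isFiniteType_biprod a.E b.E a.ft b.ft)⟩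
  refine ⟨c, ⟨biprod.inl ≫ factorThruImageSubobject g, ?_⟩,
    ⟨biprod.inr ≫ factorThruImageSubobject g, ?_⟩⟩
  · change (biprod.inl ≫ factorThruImageSubobject g) ≫ (imageSubobject g).arrow = a.ι
    rw [Category.assoc, imageSubobject_arrow_comp, biprod.inl_desc]
  · change (biprod.inr ≫ factorThruImageSubobject g) ≫ (imageSubobject g).arrow = b.ι
    rw [Category.assoc, imageSubobject_arrow_comp, biprod.inr_desc]

end Groth.Agent.Lib.Helper19.FtSubD1
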