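import Mathlib
import Groth.Prelude.Def_CInt

set_option autoImplicit false
universe u
open TensorProduct AlgebraicGeometry CategoryTheory TopologicalSpace

namespace Groth.Agent.Lib.Helper19.SDG2

/-- a section killed by a power of a function is zero where the function is invertible. -/
theorem res_basicOpen_eq_zero_of_pow_mul_eq_zero {X : Scheme.{u}} {U : X.Opens} (b x : Γ(X, U))
    (n : ℕ) (h : b ^ n * x = 0) :
    X.presheaf.map (homOfLE (X.basicOpen_le b)).op x = 0 := by
  have hu : IsUnit (X.presheaf.map (homOfLE (X.basicOpen_le b)).op b) :=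
    RingedSpace.isUnit_res_basicOpen _ b
  have h1 := congrArg (X.presheaf.map (homOfLE (X.basicOpen_le b)).op) h
  rw [map_mul, map_pow, map_zero] at h1
  exact (hu.pow n).mul_right_eq_zero.mp h1

theorem G2 {X : Scheme.{u}} (V : X.Opens) (hV : CInt.IsSchematicallyDense V) (U : X.Opens)
    (hU : IsAffineOpen U) (g x : Γ(X, U))
    (h : ∀ a : Γ(X, U), X.basicOpen a ≤ V → ∃ n : ℕ, (g * a) ^ n * x = 0) :
    ∃ m : ℕ, g ^ m * x = 0 := by
  apply exists_pow_mul_eq_zero_of_res_basicOpen_eq_zero_of_isAffineOpen X hU x g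
  change X.presheaf.map (homOfLE (X.basicOpen_le g)).op x = 0
  apply hV (X.basicOpen g)
  rw [map_zero]
  -- cover `D(g) ⊓ V` by the `D(g a)`
  let ι := {a : Γ(X, U) // X.basicOpen a ≤ V}
  let W : ι → X.Opens := fun a => X.basicOpen (g * a.1)
  have hW : ∀ a : ι, W a ≤ X.basicOpen g ⊓ V := by
    intro a
    change X.basicOpen (g * a.1) ≤ _
    rw [Scheme.basicOpen_mul]
    exact inf_le_inf_left _ a.2
  refine TopCat.Sheaf.eq_of_locally_eq' X.sheaf W (X.basicOpen g ⊓ V) (fun a => homOfLE (hW a)) ?_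
    _ _ ?_
  · intro p hp
    obtain ⟨a, ha1, ha2⟩ := hU.exists_basicOpen_le (V := V) ⟨p, hp.2⟩ (X.basicOpen_le g hp.1)
    rw [Opens.mem_iSup]
    refine ⟨⟨a, ha1⟩, ?_⟩
    change p ∈ X.basicOpen (g * a)
    rw [Scheme.basicOpen_mul]
    exact ⟨hp.1, ha2⟩
  · intro a
    obtain ⟨n, hn⟩ := h a.1 a.2
    have h0 := res_basicOpen_eq_zero_of_pow_mul_eq_zero (g * a.1) x n hn
    change (X.presheaf.map (homOfLE (hW a)).op) ((X.presheaf.map (homOfLE _).op)
      ((X.presheaf.map (homOfLE _).op) x)) = (X.presheaf.map (homOfLE (hW a)).op) 0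
    rw [map_zero, ← CommRingCat.comp_apply, ← CommRingCat.comp_apply, ← Functor.map_comp,
      ← Functor.map_comp]
    exact h0

end Groth.Agent.Lib.Helper19.SDG2
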