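import Mathlib.AlgebraicGeometry.SpreadingOut
import Mathlib.AlgebraicGeometry.Morphisms.FinitePresentation
import Mathlib.AlgebraicGeometry.Birational.RationalMap

set_option autoImplicit false
universe u
open CategoryTheory CategoryTheory.Limits AlgebraicGeometry

namespace Groth.Agent.Lib.Helper19

variable {X : Scheme.{u}}

lemma exists_lift_of_fp_aux {R A : Type u} [CommRing R] [CommRing A]
    {x : X} {U : X.Opens} (hxU : x ∈ U)
    (φ : A →+* X.presheaf.stalk x) (φRA : R →+* A) (φRX : R →+* Γ(X, U))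
    (hφRA : φRA.FinitePresentation)
    (e : φ.comp φRA = (X.presheaf.germ U x hxU).hom.comp φRX) :
    ∃ (V : X.Opens) (hxV : x ∈ V) (i : V ≤ U) (φ' : A →+* Γ(X, V)),
      φ = (X.presheaf.germ V x hxV).hom.comp φ' ∧
        (X.presheaf.map (homOfLE i).op).hom.comp φRX = φ'.comp φRA := by
  classical
  let _ := φRA.toAlgebra
  obtain ⟨n, π, hπ, T, hT⟩ := hφRA
  choose W hxW s hs using fun i : Fin n ↦ X.presheaf.exists_germ_eq (φ (π (MvPolynomial.X i)))
  have hx₀ : x ∈ Finset.univ.inf W ⊓ U := by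
    rw [← SetLike.mem_coe, TopologicalSpace.Opens.coe_inf, TopologicalSpace.Opens.coe_finset_inf]
    exact ⟨by simpa using fun i ↦ hxW i, hxU⟩
  set W₀ : X.Opens := Finset.univ.inf W ⊓ U with hW₀
  have hW₀U : W₀ ≤ U := inf_le_right
  have hW₀W (i : Fin n) : W₀ ≤ W i := inf_le_left.trans (Finset.inf_le (Finset.mem_univ i))
  let ψ₀ : MvPolynomial (Fin n) R →+* Γ(X, W₀) :=
    MvPolynomial.eval₂Hom ((X.presheaf.map (homOfLE hW₀U).op).hom.comp φRX)
      (fun i ↦ X.presheaf.map (homOfLE (hW₀W i)).op (s i))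
  have hψ₀ : (X.presheaf.germ W₀ x hx₀).hom.comp ψ₀ = φ.comp (π : MvPolynomial (Fin n) R →+* A) := by
    apply MvPolynomial.ringHom_ext
    · intro r
      have h1 : π (MvPolynomial.C r) = φRA r := π.commutes r
      simp only [RingHom.coe_comp, Function.comp_apply, RingHom.coe_coe, h1]
      have h2 := DFunLike.congr_fun e r
      simp only [RingHom.coe_comp, Function.comp_apply] at h2
      rw [h2]
      simp only [ψ₀, MvPolynomial.coe_eval₂Hom, MvPolynomial.eval₂_C, RingHom.coe_comp,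
        Function.comp_apply]
      exact X.presheaf.germ_res_apply _ _ _ _
    · intro i
      simp only [RingHom.coe_comp, Function.comp_apply, RingHom.coe_coe]
      rw [← hs i]
      simp only [ψ₀, MvPolynomial.coe_eval₂Hom, MvPolynomial.eval₂_X]
      exact X.presheaf.germ_res_apply _ _ _ _
  have hker (t : MvPolynomial (Fin n) R) (ht : π t = 0) :
      ∃ (W' : X.Opens) (_ : x ∈ W') (i : W' ≤ W₀), X.presheaf.map (homOfLE i).op (ψ₀ t) = 0 := by
    have h1 : X.presheaf.germ W₀ x hx₀ (ψ₀ t) = X.presheaf.germ W₀ x hx₀ 0 := by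
      have := DFunLike.congr_fun hψ₀ t
      simp only [RingHom.coe_comp, Function.comp_apply, RingHom.coe_coe, ht, map_zero] at this
      rw [map_zero]
      exact this
    obtain ⟨W', hxW', i₁, i₂, h⟩ := X.presheaf.germ_eq x hx₀ hx₀ _ _ h1
    refine ⟨W', hxW', i₁.le, ?_⟩
    rw [map_zero] at h
    exact h
  choose W' hxW' iW' hW' using hker
  let W'' : T → X.Opens := fun t ↦ W' t.1 (by
    have : t.1 ∈ RingHom.ker π.toRingHom := hT ▸ Ideal.subset_span t.2
    exact this)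
  have hx₁ : x ∈ Finset.univ.inf W'' ⊓ W₀ := by
    rw [← SetLike.mem_coe, TopologicalSpace.Opens.coe_inf, TopologicalSpace.Opens.coe_finset_inf]
    exact ⟨by simpa using fun t ht ↦ hxW' _ _, hx₀⟩
  set V : X.Opens := Finset.univ.inf W'' ⊓ W₀ with hV
  have hVW₀ : V ≤ W₀ := inf_le_right
  have hVW'' (t : T) : V ≤ W'' t := inf_le_left.trans (Finset.inf_le (Finset.mem_univ t))
  let ψ₁ : MvPolynomial (Fin n) R →+* Γ(X, V) := (X.presheaf.map (homOfLE hVW₀).op).hom.comp ψ₀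
  have hψ₁ : RingHom.ker π.toRingHom ≤ RingHom.ker ψ₁ := by
    rw [← hT, Ideal.span_le]
    intro t ht
    have h1 := hW' t (by
      have : t ∈ RingHom.ker π.toRingHom := hT ▸ Ideal.subset_span ht
      exact this)
    change ψ₁ t = 0
    simp only [ψ₁, RingHom.coe_comp, Function.comp_apply]
    have h2 : X.presheaf.map (homOfLE hVW₀).op (ψ₀ t) =
        X.presheaf.map (homOfLE (hVW'' ⟨t, ht⟩)).op
          (X.presheaf.map (homOfLE (iW' t _)).op (ψ₀ t)) := by
      rw [← ConcreteCategory.comp_apply, ← X.presheaf.map_comp]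
      rfl
    change X.presheaf.map (homOfLE hVW₀).op (ψ₀ t) = 0
    rw [h2, h1, map_zero]
  have hπ' : Function.Surjective π.toRingHom := hπ
  refine ⟨V, hx₁, hVW₀.trans hW₀U, RingHom.liftOfSurjective π.toRingHom hπ' ⟨ψ₁, hψ₁⟩, ?_, ?_⟩
  · apply RingHom.cancel_right hπ' |>.mp
    rw [RingHom.comp_assoc, RingHom.liftOfSurjective_comp]
    change φ.comp (π : MvPolynomial (Fin n) R →+* A) = _
    rw [← hψ₀]
    refine RingHom.ext fun t => ?_
    simp only [ψ₁, RingHom.coe_comp, Function.comp_apply]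
    exact (X.presheaf.germ_res_apply _ _ _ _).symm
  · refine RingHom.ext fun r => ?_
    have h1 : φRA r = π.toRingHom (MvPolynomial.C r) := (π.commutes r).symm
    simp only [RingHom.coe_comp, Function.comp_apply, h1]
    rw [RingHom.liftOfSurjective_comp_apply]
    simp only [ψ₁, ψ₀, RingHom.coe_comp, Function.comp_apply, MvPolynomial.coe_eval₂Hom,
      MvPolynomial.eval₂_C]
    rw [← ConcreteCategory.comp_apply, ← X.presheaf.map_comp]
    rfl

lemma exists_lift_of_fp {R A : CommRingCat.{u}} {x : X} {U : X.Opens} (hxU : x ∈ U)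
    (φ : A ⟶ X.presheaf.stalk x) (φRA : R ⟶ A) (φRX : R ⟶ Γ(X, U))
    (hφRA : RingHom.FinitePresentation φRA.hom)
    (e : φRA ≫ φ = φRX ≫ X.presheaf.germ U x hxU) :
    ∃ (V : X.Opens) (hxV : x ∈ V) (φ' : A ⟶ Γ(X, V)) (i : V ≤ U), IsAffineOpen V ∧
      φ = φ' ≫ X.presheaf.germ V x hxV ∧ φRX ≫ X.presheaf.map i.hom.op = φRA ≫ φ' := by
  obtain ⟨V₀, hxV₀, i₀, φ₀, h₁, h₂⟩ := exists_lift_of_fp_aux hxU φ.hom φRA.hom φRX.hom hφRA
    (by rw [← CommRingCat.hom_comp, e]; rfl)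
  obtain ⟨_, ⟨V : X.Opens, hV : IsAffineOpen V, rfl⟩, hxV, hVV₀⟩ :=
    X.isBasis_affineOpens.exists_subset_of_mem_open hxV₀ V₀.2
  have hVV₀' : V ≤ V₀ := hVV₀
  refine ⟨V, hxV, CommRingCat.ofHom φ₀ ≫ X.presheaf.map (homOfLE hVV₀').op, hVV₀'.trans i₀, hV,
    ?_, ?_⟩
  · rw [Category.assoc, X.presheaf.germ_res]
    ext1
    exact h₁
  · rw [← Category.assoc]
    have : φRA ≫ CommRingCat.ofHom φ₀ = φRX ≫ X.presheaf.map (homOfLE i₀).op := by
      ext1
      exact h₂.symm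
    rw [this, Category.assoc, ← X.presheaf.map_comp]
    rfl

variable {S Y : Scheme.{u}} (sX : X ⟶ S) (sY : Y ⟶ S)

lemma spread_out_of_fp [LocallyOfFinitePresentation sY] {x : X} {y : Y}
    (e : sX x = sY y) (φ : Y.presheaf.stalk y ⟶ X.presheaf.stalk x)
    (h : sY.stalkMap y ≫ φ =
      S.presheaf.stalkSpecializes (Inseparable.of_eq e).specializes ≫ sX.stalkMap x) :
    ∃ (U : X.Opens) (hxU : x ∈ U) (f : U.toScheme ⟶ Y),
      Spec.map φ ≫ Y.fromSpecStalk y = U.fromSpecStalkOfMem x hxU ≫ f ∧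
      f ≫ sY = U.ι ≫ sX := by
  obtain ⟨_, ⟨U, hU, rfl⟩, hxU, -⟩ :=
    S.isBasis_affineOpens.exists_subset_of_mem_open (Set.mem_univ (sX x)) isOpen_univ
  have hyU : sY y ∈ U := e ▸ hxU
  obtain ⟨_, ⟨V : Y.Opens, hV, rfl⟩, hyV, iVU⟩ :=
    Y.isBasis_affineOpens.exists_subset_of_mem_open hyU (sY ⁻¹ᵁ U).2
  have : sY.appLE U V iVU ≫ Y.presheaf.germ V y hyV ≫ φ =
      sX.app U ≫ X.presheaf.germ (sX ⁻¹ᵁ U) x hxU := by
    rw [Scheme.Hom.appLE, Category.assoc, Y.presheaf.germ_res_assoc,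
      ← Scheme.Hom.germ_stalkMap_assoc, h]
    simp
  obtain ⟨W, hxW, φ', i, hW, h₁, h₂⟩ :=
    exists_lift_of_fp (R := Γ(S, U)) (A := Γ(Y, V)) (U := sX ⁻¹ᵁ U) (x := x) hxU
    (Y.presheaf.germ _ y hyV ≫ φ) (sY.appLE U V iVU) (sX.app U)
    (sY.finitePresentation_appLE hU hV _) this
  refine ⟨W, hxW, W.toSpecΓ ≫ Spec.map φ' ≫ hV.fromSpec, ?_, ?_⟩
  · rw [W.fromSpecStalkOfMem_toSpecΓ_assoc x hxW, ← Spec.map_comp_assoc, ← h₁,
      Spec.map_comp, Category.assoc, ← IsAffineOpen.fromSpecStalk,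
      IsAffineOpen.fromSpecStalk_eq_fromSpecStalk]
  · simp only [Category.assoc]
    rw [← IsAffineOpen.SpecMap_appLE_fromSpec sY hU hV iVU, ← Spec.map_comp_assoc, ← h₂,
      ← Scheme.Hom.appLE, ← hW.isoSpec_hom, IsAffineOpen.SpecMap_appLE_fromSpec sX hU hW i,
      ← Iso.eq_inv_comp, IsAffineOpen.isoSpec_inv_ι_assoc]

lemma spread_out_of_fp' [LocallyOfFinitePresentation sY] {x : X}
    (φ : Spec (X.presheaf.stalk x) ⟶ Y)
    (h : φ ≫ sY = X.fromSpecStalk x ≫ sX) :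
    ∃ (U : X.Opens) (hxU : x ∈ U) (f : U.toScheme ⟶ Y),
      φ = U.fromSpecStalkOfMem x hxU ≫ f ∧ f ≫ sY = U.ι ≫ sX := by
  have := spread_out_of_fp sX sY ?_ (Scheme.stalkClosedPointTo φ) ?_
  · simpa only [Scheme.Spec_stalkClosedPointTo_fromSpecStalk] using this
  · rw [← Scheme.Hom.comp_apply, h, Scheme.Hom.comp_apply, Scheme.fromSpecStalk_closedPoint]
  · apply Spec.map_injective
    rw [← cancel_mono (S.fromSpecStalk _)]
    simpa only [Spec.map_comp, Category.assoc, Scheme.SpecMap_stalkMap_fromSpecStalk,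
      Scheme.Spec_stalkClosedPointTo_fromSpecStalk_assoc,
      Scheme.SpecMap_stalkSpecializes_fromSpecStalk]

end Groth.Agent.Lib.Helper19
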