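import Mathlib.RingTheory.Unramified.Locus
import Mathlib.RingTheory.Kaehler.TensorProduct
import Mathlib.RingTheory.LocalRing.Module
import Mathlib.RingTheory.LocalRing.ResidueField.Ideal
import Mathlib.RingTheory.Flat.FaithfullyFlat.Basic
import Mathlib.RingTheory.Spectrum.Prime.Module

set_option autoImplicit false
universe u

open TensorProduct

namespace Groth.Agent.Lib.Helper19

lemma mem_support_baseChange_of_comap_mem {B B' M : Type u} [CommRing B] [CommRing B']
    [Algebra B B'] [AddCommGroup M] [Module B M] [Module.Finite B M] (P' : PrimeSpectrum B')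
    (h : PrimeSpectrum.comap (algebraMap B B') P' ∈ Module.support B M) :
    P' ∈ Module.support B' (B' ⊗[B] M) := by
  set P := PrimeSpectrum.comap (algebraMap B B') P' with hP
  rw [Module.mem_support_iff_nontrivial_residueField_tensorProduct] at h ⊢
  let K := P.asIdeal.ResidueField
  let K' := P'.asIdeal.ResidueField
  let φ : K →ₐ[B] K' := Ideal.ResidueField.mapₐ P.asIdeal P'.asIdeal (Algebra.ofId B B') rfl
  let _ : Algebra K K' := φ.toRingHom.toAlgebra
  have : IsScalarTower B K K' := IsScalarTower.of_algebraMap_eq' φ.comp_algebraMap.symm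
  have : Nontrivial (K ⊗[B] M) := h
  have h1 : Nontrivial (K' ⊗[K] (K ⊗[B] M)) := inferInstance
  have e1 : K' ⊗[K] (K ⊗[B] M) ≃ₗ[K'] K' ⊗[B] M :=
    AlgebraTensorModule.cancelBaseChange B K K' K' M
  have e2 : K' ⊗[B'] (B' ⊗[B] M) ≃ₗ[K'] K' ⊗[B] M :=
    AlgebraTensorModule.cancelBaseChange B B' K' K' M
  exact (e2.trans e1.symm).toEquiv.nontrivial

lemma comap_mem_unramifiedLocus_of_isPushout {A A' B B' : Type u} [CommRing A] [CommRing A']
    [CommRing B] [CommRing B'] [Algebra A A'] [Algebra A B] [Algebra A' B'] [Algebra B B']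
    [Algebra A B'] [IsScalarTower A A' B'] [IsScalarTower A B B'] [Algebra.IsPushout A A' B B']
    [Algebra.FiniteType A B] (P' : PrimeSpectrum B')
    (h : P' ∈ Algebra.unramifiedLocus A' B') :
    PrimeSpectrum.comap (algebraMap B B') P' ∈ Algebra.unramifiedLocus A B := by
  rw [Algebra.unramifiedLocus_eq_compl_support] at h ⊢
  intro h2
  apply h
  have h3 := mem_support_baseChange_of_comap_mem (M := Ω[B⁄A]) P' h2
  rwa [(KaehlerDifferential.tensorKaehlerEquiv A A' B B').support_eq] at h3

end Groth.Agent.Lib.Helper19
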