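import Groth.Agent.Lib.Helper19.StalkCriteria
import Groth.Agent.Lib.Helper19.UnramifiedFiber
import Mathlib.RingTheory.Unramified.LocalStructure
import Mathlib.AlgebraicGeometry.Morphisms.FlatMono
import Mathlib.AlgebraicGeometry.Morphisms.ClosedImmersion

set_option autoImplicit false
universe u
open CategoryTheory CategoryTheory.Limits AlgebraicGeometry

namespace Groth.Agent.Lib.Helper19

/-- Local structure of unramified morphisms: around every point `x`, after an étale base change
`g : Y' ⟶ Y`, an open of `X ×_Y Y'` whose image contains `x` is a closed subscheme of `Y'`. -/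
theorem exists_etale_closedImmersion_nhd {X Y : Scheme.{u}} (f : X ⟶ Y) [LocallyOfFiniteType f]
    [FormallyUnramified f] (x : X) :
    ∃ (Y' : Scheme.{u}) (g : Y' ⟶ Y) (U : (pullback f g).Opens), Etale g ∧
      x ∈ (pullback.fst f g).base '' (U : Set ↥(pullback f g)) ∧
      IsClosedImmersion (U.ι ≫ pullback.snd f g) := by
  have hresp := formallyUnramified_respectsRight_isOpenImmersion.{u}
  obtain ⟨_, ⟨V : Y.Opens, hV : IsAffineOpen V, rfl⟩, hxV, -⟩ :=
    Y.isBasis_affineOpens.exists_subset_of_mem_open (Set.mem_univ (f x)) isOpen_univ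
  obtain ⟨_, ⟨W : X.Opens, hW : IsAffineOpen W, rfl⟩, hxW, hWV⟩ :=
    X.isBasis_affineOpens.exists_subset_of_mem_open
      (show x ∈ f ⁻¹ᵁ V from hxV) (f ⁻¹ᵁ V).2
  have hWV : W ≤ f ⁻¹ᵁ V := hWV
  have hft := f.finiteType_appLE hV hW hWV
  have hfu : (f.appLE V W hWV).hom.FormallyUnramified := by
    rw [← ι_comp_iff_appLE @FormallyUnramified f hV hW hWV]
    exact MorphismProperty.comp_mem _ _ _ (inferInstance : FormallyUnramified W.ι) inferInstance
  algebraize [(f.appLE V W hWV).hom]
  let q := (hW.primeIdealOf ⟨x, hxW⟩).asIdeal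
  have : Algebra.IsUnramifiedAt Γ(Y, V) q := by
    have : Algebra.FormallyUnramified Γ(X, W) (Localization.AtPrime q) :=
      Algebra.FormallyUnramified.of_isLocalization q.primeCompl
    exact Algebra.FormallyUnramified.comp Γ(Y, V) Γ(X, W) (Localization.AtPrime q)
  obtain ⟨t, htq, P, ψ, hψ⟩ :=
    Algebra.IsUnramifiedAt.exists_hasStandardEtaleSurjectionOn (R := Γ(Y, V)) q
  set D : X.Opens := X.basicOpen t with hDdef
  have hD : IsAffineOpen D := hW.basicOpen t
  have hxD : x ∈ D := (mem_basicOpen_iff_notMem_primeIdealOf hW x hxW t).mpr htq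
  have hDV : D ≤ f ⁻¹ᵁ V := (X.basicOpen_le t).trans hWV
  have hloc : IsLocalization.Away t Γ(X, D) := hW.isLocalization_basicOpen t
  let e : Localization.Away t ≃+* Γ(X, D) :=
    (IsLocalization.algEquiv (Submonoid.powers t) (Localization.Away t) Γ(X, D)).toRingEquiv
  let ψ' : P.Ring →+* Γ(X, D) := e.toRingHom.comp ψ.toRingHom
  have hψ' : Function.Surjective ψ' := e.surjective.comp hψ
  have hψ'alg : ψ'.comp (algebraMap Γ(Y, V) P.Ring) = (f.appLE V D hDV).hom := by
    have h1 : ψ'.comp (algebraMap Γ(Y, V) P.Ring) =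
        (X.presheaf.map (homOfLE (X.basicOpen_le t)).op).hom.comp (f.appLE V W hWV).hom := by
      ext a
      simp [ψ', e, IsScalarTower.algebraMap_apply Γ(Y, V) Γ(X, W) (Localization.Away t),
        RingHom.algebraMap_toAlgebra]
    rw [h1, ← CommRingCat.hom_comp, f.appLE_map hWV (homOfLE (X.basicOpen_le t)).op]
  -- the étale neighbourhood
  let g : Spec (CommRingCat.of P.Ring) ⟶ Y :=
    Spec.map (CommRingCat.ofHom (algebraMap Γ(Y, V) P.Ring)) ≫ hV.fromSpec
  have hg : Etale g := by
    have : Etale (Spec.map (CommRingCat.ofHom (algebraMap Γ(Y, V) P.Ring))) := by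
      rw [HasRingHomProperty.Spec_iff (P := @Etale)]
      exact RingHom.etale_algebraMap.mpr inferInstance
    infer_instance
  -- the closed immersion
  let i : D.toScheme ⟶ Spec (CommRingCat.of P.Ring) :=
    hD.isoSpec.hom ≫ Spec.map (CommRingCat.ofHom ψ')
  have hi : IsClosedImmersion i := by
    have : IsClosedImmersion (Spec.map (CommRingCat.ofHom ψ')) :=
      IsClosedImmersion.spec_of_surjective _ hψ'
    infer_instance
  have hcomm : D.ι ≫ f = i ≫ g := by
    simp only [i, g, Category.assoc]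
    rw [← Spec.map_comp_assoc, ← CommRingCat.ofHom_comp, hψ'alg, CommRingCat.ofHom_hom,
      IsAffineOpen.SpecMap_appLE_fromSpec f hV hD hDV, hD.isoSpec_hom_fromSpec_assoc]
  let σ : D.toScheme ⟶ pullback f g := pullback.lift D.ι i hcomm
  have hσ₁ : σ ≫ pullback.fst f g = D.ι := pullback.lift_fst _ _ _
  have hσ₂ : σ ≫ pullback.snd f g = i := pullback.lift_snd _ _ _
  have hσet : Etale σ := by
    have : Etale (σ ≫ pullback.fst f g) := by rw [hσ₁]; infer_instance
    exact Etale.of_comp σ (pullback.fst f g)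
  have hσmono : Mono σ := by
    have : Mono (σ ≫ pullback.fst f g) := by rw [hσ₁]; infer_instance
    exact mono_of_mono σ (pullback.fst f g)
  have hσoi : IsOpenImmersion σ := IsOpenImmersion.of_flat_of_mono σ
  refine ⟨_, g, σ.opensRange, hg, ⟨σ ⟨x, hxD⟩, ⟨_, rfl⟩, ?_⟩, ?_⟩
  · rw [← Scheme.Hom.comp_apply, hσ₁]
    rfl
  · have : σ.opensRange.ι ≫ pullback.snd f g = σ.isoOpensRange.inv ≫ i := by
      rw [← hσ₂, ← Category.assoc, Scheme.Hom.isoOpensRange_inv_comp]
    rw [this]
    infer_instance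

end Groth.Agent.Lib.Helper19
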